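import Cfsg.Agent.H876.L64.TFive_m3
import Cfsg.Agent.Lib.FinFast
import Cfsg.Agent.Lib.FastDecM
import Cfsg.Agent.ChevFast.E8
import Mathlib
import Cfsg.Prelude.Def_Local
import Cfsg.Agent.ClassicalGeometry.AutPSL.Main
import Cfsg.Agent.ClassicalGeometry.PSL2Basic
import Cfsg.Agent.ClassicalGeometry.PSL2Solvable
import Cfsg.Agent.Lib.GenFitting
import Cfsg.Agent.H179.SLC.Coc_m3
import Cfsg.Agent.SignalizersComponents.LayerBasic
import Cfsg.Agent.H955.L64.Irr
import Cfsg.Agent.LieClassical.FieldTransfer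
import Cfsg.Agent.H939.L64.Base
import Cfsg.Agent.FastGrp
import Cfsg.Agent.Prune
set_option linter.all false

section
prune_inst 0x7ffdbdf9bbb8fddfdfff7e7faededffdfbbb3fffa6dff9cbffe041ff0b9f4b02cdc56bad0fe910fe0ed6601410f87b43fb7eeeffe86bdc7ffffdfff41ffbff8ffdf73108519c8cb40fb82ff703f0778e7f3fffffffffdfffffffffffffffffbeffbfffffffff

-- part: H413/L16/Br
section
set_option linter.all false
open scoped Cfsg.Agent.FastGrp

/-!
# S5916: the bracket of `E₈` over a field of characteristic two, on root vectors (helper413)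

* `tg r s` : the index of the root `r + s` (240 if it is not a root);
* `br_rr` : `[e_r, e_s] = e_{r+s}` or `0`;
* `br_neg` : `[e_r, e_{-r}] = h_r`.
-/

set_option autoImplicit false
set_option maxRecDepth 100000

namespace Cfsg.Agent.H413.L16

open Cfsg Cfsg.Lie Cfsg.Lie.ChevalleyDatum
open Cfsg.Agent.ChevalleyStructure Cfsg.Agent.ChevalleyStructure.Ring Cfsg.Agent.ChevalleyStructure.LieAut
  Cfsg.Agent.ChevalleyStructure.JacMain Cfsg.Agent.ChevalleyStructure.LieAbs
open Cfsg.Agent.H939.L64 Cfsg.Agent.H512.LinFour.IdealF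
open Cfsg.Agent.ChevalleyStructure.Columns (car cor)
open Cfsg.Agent.H876.L64 (two_zero h_br br_h hE8)
open Cfsg.Agent.H413.L64 (charKK)

/-- the chain row -/
def row (r : ℕ) : List (ℕ × Array (ℕ × ℤ)) := (chevE8.chain.getD r #[]).toList

/-- the index of `r + s` -/
def tg (r s : ℕ) : ℕ := ((row r).find? fun e => e.1 == s).elim 240 fun e => (e.2.getD 0 (240, 0)).1

def okRow (r : ℕ) : Bool :=
  let l := (chevE8.chain.getD r #[]).toList
  l.all (fun e => decide (e.1 < 240) && decide (e.1 ≠ r) && decide (e.1 ≠ 239 - r) && decide (e.2.toList.length = 1) &&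
    decide ((e.2.getD 0 (240, 0)).1 < 240) && decide ((e.2.getD 0 (240, 0)).2 % 2 ≠ 0)) &&
  (l.zip l.tail).all fun p => decide (p.1.1 < p.2.1)

private noncomputable def _root_.Cfsg.Agent.LsF.f29a82b_0 : {f // @Cfsg.Agent.H413.L16.okRow = f} := ⟨_, by first | (delta Cfsg.Agent.H413.L16.okRow; rewrite [Cfsg.Agent.LsF.nsub_pat, Cfsg.Agent.LsF.imod_pat, Cfsg.Agent.LsF.and_eq, Cfsg.Agent.LsF.instDecEq_eq, Cfsg.Agent.LsF.decLt_eq, Cfsg.Agent.LsF.all_eq, Cfsg.Agent.LsF.zip_eq, Cfsg.Agent.LsF.agetD_eq, Cfsg.Agent.LsF.tail_eq, Cfsg.Agent.LsF.instIDecEq_eq, Cfsg.Agent.LsF.dNot_eq, Cfsg.Agent.LsF.length_eq, Cfsg.Agent.LsF.decide_eq]; exact rfl) | exact rfl⟩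
theorem ok_all : ((List.range 240).all okRow) = true := by (first | (set_option backward.isDefEq.respectTransparency.types false in set_option synthInstance.maxSize 99999 in (delta _root_.Cfsg.Agent.H413.L16.okRow; exact _root_.Cfsg.Agent.FastDec.of (by decide +kernel))) | ((try (rewrite [Cfsg.Agent.LsF.f29a82b_0.2, Cfsg.Agent.LsF.all_eq, Cfsg.Agent.LsF.range_eq])); decide +kernel))

theorem filter_find {β : Type*} (s : ℕ) : ∀ l : List (ℕ × β), ((l.zip l.tail).all fun p => decide (p.1.1 < p.2.1)) = true →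
    (l.filter fun e => e.1 = s) = (l.find? fun e => e.1 == s).toList := by
  have key : ∀ (l : List (ℕ × β)) (a : ℕ × β), (((a :: l).zip l).all fun p => decide (p.1.1 < p.2.1)) = true →
      ∀ e ∈ l, a.1 < e.1 := by
    intro l
    induction l with
    | nil => intro a _ e he; exact absurd he (by simp)
    | cons b l ih =>
      intro a h e he
      rw [List.zip_cons_cons, List.all_cons, Bool.and_eq_true, decide_eq_true_eq] at h
      rcases List.mem_cons.1 he with rfl | he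
      · exact h.1
      · exact h.1.trans (ih b h.2 e he)
  intro l
  induction l with
  | nil => intro _; rfl
  | cons a l ih =>
    intro h
    rw [List.tail_cons] at h
    have hk := key l a h
    have h' : ((l.zip l.tail).all fun p => decide (p.1.1 < p.2.1)) = true := by
      cases l with
      | nil => rfl
      | cons b l =>
        rw [List.zip_cons_cons, List.all_cons, Bool.and_eq_true] at h
        exact h.2
    by_cases hs : a.1 = s
    · rw [List.filter_cons_of_pos (by simpa using hs), List.find?_cons_of_pos (by simpa using hs)]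
      have : l.filter (fun e => e.1 = s) = [] := by
        rw [List.filter_eq_nil_iff]
        intro e he h1
        have := hk e he
        have h2 : e.1 = s := by simpa using h1
        omega
      rw [this]
      rfl
    · rw [List.filter_cons_of_neg (by simpa using hs), List.find?_cons_of_neg (by simpa using hs), ih h']

theorem okRow_spec {r : ℕ} (hr : r < 240) : okRow r = true := List.all_eq_true.1 ok_all r (List.mem_range.2 hr)

/-- the coefficient of `e_u` in `[e_r, e_s]`, up to a multiple of two -/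
theorem chain_mod {r s u : ℕ} (hr : r < 240) :
    (((chevE8.chainCoeff r s u).map fun km => if km.1 = 1 then km.2 else 0).sum % 2 ≠ 0 ↔ tg r s = u ∧ u < 240) ∧
    (tg r s < 240 → s ≠ r ∧ s ≠ 239 - r ∧ s < 240) ∧ tg r s ≤ 240 := by
  have h := okRow_spec hr
  unfold okRow at h
  rw [Bool.and_eq_true] at h
  obtain ⟨h1, h2⟩ := h
  have h3 := filter_find s _ h2
  unfold chainCoeff tg row
  rw [h3]
  cases hf : (chevE8.chain.getD r #[]).toList.find? (fun e => e.1 == s) with
  | none =>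
    simp
    intro h4
    omega
  | some e =>
    have he := List.mem_of_find?_eq_some hf
    have hes : e.1 = s := by simpa using List.find?_some hf
    have h4 := List.all_eq_true.1 h1 e he
    simp only [Bool.and_eq_true, decide_eq_true_eq] at h4
    obtain ⟨⟨⟨⟨⟨a1, a2⟩, a3⟩, a4⟩, a5⟩, a6⟩ := h4
    obtain ⟨x, hx⟩ := List.length_eq_one_iff.1 a4
    have hg : e.2.getD 0 (240, 0) = x := by
      have h5 : e.2 = #[x] := by rw [← Array.toArray_toList (xs := e.2), hx]
      rw [h5]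
      rfl
    rw [hg] at a5 a6
    subst hes
    show ((((([e].flatMap fun e => (e.2.toList.zipIdx.filter fun q => decide (q.1.1 = u)).map fun q => (q.2 + 1, q.1.2)).map
      fun km => if km.1 = 1 then km.2 else 0).sum % 2 ≠ 0) ↔ (e.2.getD 0 (240, 0)).1 = u ∧ u < 240) ∧
      ((e.2.getD 0 (240, 0)).1 < 240 → _) ∧ (e.2.getD 0 (240, 0)).1 ≤ 240)
    rw [hg]
    refine ⟨?_, fun _ => ⟨a2, a3, a1⟩, a5.le⟩
    rw [List.flatMap_singleton, hx, List.zipIdx_singleton]
    by_cases hu : x.1 = u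
    · subst hu
      rw [List.filter_cons_of_pos (by simp)]
      simp only [List.filter_nil, List.map_cons, List.map_nil, zero_add, if_true, List.sum_cons, List.sum_nil, add_zero]
      exact ⟨fun _ => ⟨trivial, a5⟩, fun _ => a6⟩
    · rw [List.filter_cons_of_neg (by simpa using hu)]
      simp [hu]

theorem nr : chevE8.nroots = 240 := by decide +kernel

theorem rk8 : chevE8.rank = 8 := by decide +kernel

theorem cast_even {a : ℤ} (h : a % 2 = 0) : (a : KK) = 0 := by
  obtain ⟨b, rfl⟩ := Int.dvd_of_emod_eq_zero h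
  rw [Int.cast_mul, Int.cast_ofNat, two_zero, zero_mul]

theorem cast_odd {a : ℤ} (h : a % 2 ≠ 0) : (a : KK) = 1 := by
  have h1 : (a - 1) % 2 = 0 := by omega
  have h2 := cast_even h1
  rw [Int.cast_sub, Int.cast_one, sub_eq_zero] at h2
  exact h2

/-- the root vector with the index `s` (0 if `s ≥ 240`) -/
noncomputable def er (s : ℕ) : LK := if h : s < chevE8.nroots then Pi.single (Sum.inr ⟨s, h⟩) 1 else 0

/-- the elements of the Cartan subalgebra -/
noncomputable def hv (c : Fin chevE8.rank → KK) : LK := Sum.elim c 0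

/-- `h_r` -/
noncomputable def hr (r : ℕ) : LK := hv fun i => ((cor chevE8 r i : ℤ) : KK)

theorem er_of {s : ℕ} (h : s < chevE8.nroots) : er s = Pi.single (Sum.inr ⟨s, h⟩) 1 := dif_pos h

theorem er_ge {s : ℕ} (h : 240 ≤ s) : er s = 0 := dif_neg (by rw [nr]; omega)

theorem neg_eq {r : ℕ} (hr : r < 240) : chevE8.negIdx.getD r 0 = 239 - r := by
  have h : ((List.range 240).all fun r => decide (chevE8.negIdx.getD r 0 = 239 - r)) = true := by ((try (rewrite [Cfsg.Agent.LsF.nsub_pat, Cfsg.Agent.LsF.instDecEq_eq, Cfsg.Agent.LsF.all_eq, Cfsg.Agent.LsF.range_eq, Cfsg.Agent.LsF.agetD_eq, Cfsg.Agent.LsF.decide_eq])); decide +kernel)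
  exact of_decide_eq_true (List.all_eq_true.1 h r (List.mem_range.2 hr))

/-- the bracket of a root vector with a basis vector, in coordinates -/
theorem br_er_single {r : ℕ} (hr : r < chevE8.nroots) (c a : chevE8.Idx) :
    brK (er r) (Pi.single c 1) a = (coefE chevE8 r 1 a c : KK) := by
  rw [er_of hr]
  show (adv (adR chevE8 KK) (Pi.single (Sum.inr ⟨r, hr⟩) 1)).mulVec (Pi.single c 1) a = _
  rw [adv_single_one, Matrix.mulVec_single_one]
  show adR chevE8 KK (Sum.inr ⟨r, hr⟩) a c = _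
  rw [adR_def, Matrix.map_apply]
  rfl

/-- **the bracket of two root vectors** -/
theorem br_rr {r s : ℕ} (hr : r < 240) (hs : s < 240) (hn : s ≠ 239 - r) : brK (er r) (er s) = er (tg r s) := by
  have hr' : r < chevE8.nroots := by rw [nr]; exact hr
  have hs' : s < chevE8.nroots := by rw [nr]; exact hs
  funext a
  rw [er_of hs', br_er_single hr', coefE_entry chevE8 r 1 hr']
  by_cases hrs : s = r
  · subst hrs
    have h1 : tg s s = 240 := by
      obtain ⟨-, h2, h3⟩ := chain_mod (s := s) (u := 0) hr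
      by_contra h4
      exact (h2 (by omega)).1 rfl
    rw [h1, er_ge le_rfl]
    rcases a with a | a <;> simp
  · rw [neg_eq hr]
    rcases a with a | a
    · simp only [if_neg hrs, if_neg hn]
      unfold er
      split_ifs <;> simp
    · simp only [if_neg hrs, if_neg hn]
      rw [if_neg (by omega), zero_add]
      obtain ⟨h1, -, h3⟩ := chain_mod (s := s) (u := a) hr
      have ha : (a : ℕ) < 240 := lt_of_lt_of_eq a.2 nr
      by_cases h4 : tg r s = a
      · rw [cast_odd (h1.2 ⟨h4, ha⟩), er_of (by rw [h4]; exact a.2)]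
        have : (Sum.inr ⟨tg r s, by rw [h4]; exact a.2⟩ : chevE8.Idx) = Sum.inr a := by
          congr 1
          exact Fin.ext h4
        rw [this, Pi.single_eq_same]
      · have h5 : ¬ ((((chevE8.chainCoeff r s a).map fun km => if km.1 = 1 then km.2 else 0).sum % 2 ≠ 0)) :=
          fun h => h4 (h1.1 h).1
        rw [not_not] at h5
        rw [cast_even h5]
        unfold er
        split_ifs with h6
        · rw [Pi.single_eq_of_ne]
          intro h7
          exact h4 (congrArg Fin.val (Sum.inr.inj h7)).symm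
        · rfl

/-- **the bracket of opposite root vectors** -/
theorem br_neg {r : ℕ} (hr : r < 240) : brK (er r) (er (239 - r)) = Cfsg.Agent.H413.L16.hr r := by
  have hr' : r < chevE8.nroots := by rw [nr]; exact hr
  have hs' : 239 - r < chevE8.nroots := by rw [nr]; omega
  funext a
  rw [er_of hs', br_er_single hr', coefE_entry chevE8 r 1 hr', neg_eq hr]
  have h1 : ¬ (239 - r = r) := by omega
  rcases a with a | a
  · simp only [if_neg h1, if_true]
    rfl
  · simp only [if_neg h1, if_true]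
    show (((if a = (⟨239 - r, hs'⟩ : Fin chevE8.nroots) then (if 1 = 0 then 1 else 0) else
      if 1 = 2 ∧ (a : ℕ) = r then -1 else 0 : ℤ)) : KK) = 0
    split_ifs <;> simp_all

/-- the bracket of an element of the Cartan subalgebra with a root vector -/
theorem br_hv (c : Fin chevE8.rank → KK) {s : ℕ} (hs : s < 240) :
    brK (hv c) (er s) = (∑ i, c i * ((car chevE8 i s : ℤ) : KK)) • er s := by
  have hs' : s < chevE8.nroots := by rw [nr]; exact hs
  unfold hv
  rw [h_br, er_of hs']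
  funext a
  rcases a with a | a
  · simp
  · rw [Sum.elim_inr, Pi.smul_apply, smul_eq_mul]
    by_cases h : a = ⟨s, hs'⟩
    · subst h; rfl
    · rw [Pi.single_eq_of_ne (fun h1 => h (Sum.inr.inj h1)), mul_zero, mul_zero]

theorem br_hh (c c' : Fin chevE8.rank → KK) : brK (hv c) (hv c') = 0 := by
  unfold hv
  rw [h_br]
  funext a
  rcases a with a | a
  · rfl
  · show _ * (0 : KK) = 0
    rw [mul_zero]

theorem tg_le {r : ℕ} (hr : r < 240) (s : ℕ) : tg r s ≤ 240 := (chain_mod (u := 0) hr).2.2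

theorem cast_congr {a b : ℤ} (h : (a - b) % 2 = 0) : (a : KK) = (b : KK) := by
  have := cast_even h
  rwa [Int.cast_sub, sub_eq_zero] at this

/-- the basis vectors -/
theorem single_eq (k : chevE8.Idx) : (Pi.single k 1 : LK) = Sum.elim (fun i => hv (Pi.single i 1)) (fun s => er s) k := by
  rcases k with i | s
  · funext a
    rcases a with a | a
    · show (Pi.single (Sum.inl i) 1 : LK) (Sum.inl a) = (Pi.single i 1 : Fin chevE8.rank → KK) a
      by_cases h : a = i
      · subst h; rw [Pi.single_eq_same, Pi.single_eq_same]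
      · rw [Pi.single_eq_of_ne h, Pi.single_eq_of_ne (fun h1 => h (Sum.inl.inj h1))]
    · exact Pi.single_eq_of_ne (by simp) _
  · exact (er_of s.2).symm

/-- the inverse of the Cartan matrix modulo two -/
def iC : Fin 8 → Fin 8 → ℤ := ![![0, 1, 1, 0, 0, 0, 0, 0], ![1, 0, 0, 1, 0, 1, 0, 1], ![1, 0, 0, 0, 0, 0, 0, 0], ![0, 1, 0, 0, 0, 0, 0, 0], ![0, 0, 0, 0, 0, 1, 0, 1], ![0, 1, 0, 0, 1, 0, 0, 0], ![0, 0, 0, 0, 0, 0, 0, 1], ![0, 1, 0, 0, 1, 0, 1, 0]]

/-- the indices of the simple roots -/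
def six : Fin 8 → ℕ := ![162, 141, 135, 130, 126, 123, 121, 120]

private noncomputable def _root_.Cfsg.Agent.LsF.f29a82b_1 : {f // @Cfsg.Agent.H413.L16.iC = f} := ⟨_, by first | (delta Cfsg.Agent.H413.L16.iC; rewrite [Cfsg.Agent.LsF.vecCons_eq]; exact rfl) | exact rfl⟩
private noncomputable def _root_.Cfsg.Agent.LsF.f29a82b_2 : {f // @Cfsg.Agent.ChevalleyStructure.Columns.car = f} := ⟨_, by first | (delta Cfsg.Agent.ChevalleyStructure.Columns.car; rewrite [Cfsg.Agent.LsF.agetD_eq]; exact rfl) | exact rfl⟩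
private noncomputable def _root_.Cfsg.Agent.LsF.f29a82b_3 : {f // @Cfsg.Agent.H413.L16.six = f} := ⟨_, by first | (delta Cfsg.Agent.H413.L16.six; rewrite [Cfsg.Agent.LsF.vecCons_eq]; exact rfl) | exact rfl⟩
theorem iC_spec : ∀ i k : Fin 8, ((∑ s : Fin 8, iC i s * car chevE8 k (six s)) - if k = i then 1 else 0) % 2 = 0 := by
  (refine of_decide_eq_true ?_; (try (rewrite [Cfsg.Agent.LsF.sumF_pat, Cfsg.Agent.LsF.f29a82b_1.2, Cfsg.Agent.LsF.f29a82b_2.2, Cfsg.Agent.LsF.f29a82b_3.2, Cfsg.Agent.LsF.iadd_pat, Cfsg.Agent.LsF.imul_pat, Cfsg.Agent.LsF.isub_pat, Cfsg.Agent.LsF.imod_pat, Cfsg.Agent.LsF.iACM_eq, Cfsg.Agent.LsF.instIDecEq_eq, Cfsg.Agent.LsF.dFinEq_eq, Cfsg.Agent.LsF.dForallFin_eq, Cfsg.Agent.LsF.ite_eq, Cfsg.Agent.LsF.decide_eq])); decide +kernel)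

theorem six_lt : ∀ s, six s < 240 := by decide

theorem odd_all : ((List.range 240).all fun s => (List.range 8).any fun i => decide (car chevE8 i s % 2 ≠ 0)) = true := by
  ((try (rewrite [Cfsg.Agent.LsF.f29a82b_2.2, Cfsg.Agent.LsF.imod_pat, Cfsg.Agent.LsF.all_eq, Cfsg.Agent.LsF.any_eq, Cfsg.Agent.LsF.range_eq, Cfsg.Agent.LsF.instIDecEq_eq, Cfsg.Agent.LsF.dNot_eq, Cfsg.Agent.LsF.decide_eq])); decide +kernel)

theorem jac (x y z : LK) : brK x (brK y z) = brK (brK x y) z + brK y (brK x z) :=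
  Cfsg.Agent.H971.RV.br_br hE8 x y z

theorem ad_inj {w : LK} (h : ∀ z, brK w z = 0) : w = 0 := by
  have h1 : ∀ s : Fin chevE8.nroots, w (Sum.inr s) = 0 := by
    intro s
    obtain ⟨i, hi, h2⟩ := List.any_eq_true.1 (List.all_eq_true.1 odd_all (s : ℕ) (List.mem_range.2 (lt_of_lt_of_eq s.2 nr)))
    have hi' : i < chevE8.rank := by rw [rk8]; exact List.mem_range.1 hi
    have h3 := congrFun (h (Pi.single (Sum.inl ⟨i, hi'⟩) 1)) (Sum.inr s)
    rw [br_h] at h3
    have h4 := cast_odd (of_decide_eq_true h2)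
    rw [show ((car chevE8 ((⟨i, hi'⟩ : Fin chevE8.rank) : ℕ) s : ℤ) : KK) = 1 from h4] at h3
    simpa using h3
  have h2 : w = hv fun i => w (Sum.inl i) := by
    funext a
    rcases a with a | a
    · rfl
    · exact h1 a
  have h3 : ∀ s : Fin 8, ∑ i, w (Sum.inl i) * ((car chevE8 i (six s) : ℤ) : KK) = 0 := by
    intro s
    have h4 := h (er (six s))
    rw [h2, br_hv _ (six_lt s)] at h4
    have hs' : six s < chevE8.nroots := by rw [nr]; exact six_lt s
    have h5 := congrFun h4 (Sum.inr ⟨six s, hs'⟩)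
    rw [Pi.smul_apply, er_of hs', Pi.single_eq_same, smul_eq_mul, mul_one] at h5
    exact h5
  funext a
  rcases a with a | a
  · have h6 : w (Sum.inl a) = ∑ s : Fin 8, ((iC (a.cast rk8) s : ℤ) : KK) *
        ∑ i : Fin chevE8.rank, w (Sum.inl i) * ((car chevE8 i (six s) : ℤ) : KK) := by
      simp_rw [Finset.mul_sum]
      rw [Finset.sum_comm]
      rw [Finset.sum_eq_single a]
      · have h7 := cast_odd (a := ∑ s : Fin 8, iC (a.cast rk8) s * car chevE8 a (six s)) (by
          have := iC_spec (a.cast rk8) (a.cast rk8)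
          rw [if_pos rfl] at this
          have e : ((a.cast rk8 : Fin 8) : ℕ) = a := rfl
          rw [e] at this
          omega)
        push_cast at h7
        calc w (Sum.inl a) = w (Sum.inl a) * 1 := (mul_one _).symm
          _ = w (Sum.inl a) * ∑ s : Fin 8, ((iC (a.cast rk8) s : ℤ) : KK) * ((car chevE8 a (six s) : ℤ) : KK) := by rw [h7]
          _ = _ := by
            rw [Finset.mul_sum]
            exact Finset.sum_congr rfl fun s _ => by ring
      · intro b _ hb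
        have h7 := cast_even (a := ∑ s : Fin 8, iC (a.cast rk8) s * car chevE8 b (six s)) (by
          have := iC_spec (a.cast rk8) (b.cast rk8)
          rw [if_neg (show ¬ (b.cast rk8 = a.cast rk8) from fun h => hb (Fin.ext (congrArg Fin.val h)))] at this
          have e : ((b.cast rk8 : Fin 8) : ℕ) = b := rfl
          rw [e] at this
          omega)
        push_cast at h7
        calc _ = w (Sum.inl b) * ∑ s : Fin 8, ((iC (a.cast rk8) s : ℤ) : KK) * ((car chevE8 b (six s) : ℤ) : KK) := by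
              rw [Finset.mul_sum]
              exact Finset.sum_congr rfl fun s _ => by ring
          _ = 0 := by rw [h7, mul_zero]
      · intro h; exact absurd (Finset.mem_univ _) h
    rw [h6]
    simp_rw [h3, mul_zero]
    exact Finset.sum_const_zero
  · exact h1 a

/-- **the bracket is symmetric** (characteristic two) -/
theorem br_comm (v w : LK) : brK v w = brK w v := by
  have h : brK v w + brK w v = 0 := by
    apply ad_inj
    intro z
    have h1 := jac v w z
    have h2 := jac w v z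
    rw [show brK (brK v w + brK w v) z = brK (brK v w) z + brK (brK w v) z from Cfsg.Agent.H971.RV.br_add_left _ _ _]
    rw [h2] at h1
    have h3 : (brK (brK v w) z + brK (brK w v) z) + brK v (brK w z) = brK v (brK w z) := by
      conv_rhs => rw [h1]
      abel
    exact add_eq_right.1 h3
  have h4 : brK w v + brK w v = 0 := by
    rw [← two_smul KK, two_zero, zero_smul]
  exact add_right_cancel (h.trans h4.symm)

theorem hr_neg {r : ℕ} (h : r < 240) : hr (239 - r) = hr r := by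
  have h1 := br_neg (r := 239 - r) (by omega)
  rw [show 239 - (239 - r) = r by omega, br_comm, br_neg h] at h1
  exact h1.symm

theorem br_er_hv (c : Fin chevE8.rank → KK) {s : ℕ} (hs : s < 240) :
    brK (er s) (hv c) = (∑ i, c i * ((car chevE8 i s : ℤ) : KK)) • er s := by
  rw [br_comm, br_hv c hs]

/-- the bracket as a bilinear map -/
noncomputable def brM : LK →ₗ[KK] LK →ₗ[KK] LK :=
  LinearMap.mk₂ KK brK (fun u v w => Cfsg.Agent.H971.RV.br_add_left u v w)
    (fun c v w => Cfsg.Agent.H971.RV.br_smul_left c v w) (fun u v w => Cfsg.Agent.H971.RV.br_add_right u v w)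
    (fun c v w => Cfsg.Agent.H971.RV.br_smul_right c v w)

end Cfsg.Agent.H413.L16
end

-- part: H413/L16/Nel
section
prune_inst 0x240064447022020000180512120000440400049000430000f2e00146094fd022a9012e0042701b1288a8b4c0180100481110012942200000000034000007002088c042043300a104640009800080000000000000020000000000000000041004000000000
set_option linter.all false
open scoped Cfsg.Agent.FastGrp

/-!
# S5916: the root elements of `E₈` in characteristic two on the adjoint module (helper413)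
-/

set_option autoImplicit false
set_option maxRecDepth 100000

namespace Cfsg.Agent.H413.L16

open Cfsg Cfsg.Lie Cfsg.Lie.ChevalleyDatum
open Cfsg.Agent.ChevalleyStructure Cfsg.Agent.ChevalleyStructure.Elts Cfsg.Agent.ChevalleyStructure.Ring
  Cfsg.Agent.ChevalleyStructure.LieAut Cfsg.Agent.ChevalleyStructure.JacMain Cfsg.Agent.ChevalleyStructure.LieAbs
  Cfsg.Agent.ChevalleyStructure.CoxeterGeomTypes
open Cfsg.Agent.Nodes.RGDChev Cfsg.Agent.KFacts.RgdChevCoord
open Cfsg.Agent.H942.E8Tab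
open Cfsg.Agent.H939.L64 Cfsg.Agent.H512.LinFour.IdealF
open Cfsg.Agent.ChevalleyStructure.Columns (car cor)
open Cfsg.Agent.H876.L64
open Cfsg.Agent.H413.L64 (charKK)

theorem lac8 : Lac chevE8 := ⟨by simp, by (delta Cfsg.Agent.ChevalleyStructure.Columns.row; rewrite [Cfsg.Agent.ChevFast.E8.chain]; decide +kernel), by decide +kernel⟩

/-- the root elements -/
noncomputable def xr (r : ℕ) (c : KK) : ↥(chevE8.group KK) := xc e8T (vec chevE8 8 r) c

theorem coe_xr {r : ℕ} (hr : r < 240) (c : KK) :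
    (((xr r c : ↥(chevE8.group KK)) : GL chevE8.Idx KK) : Matrix chevE8.Idx chevE8.Idx KK) = chevE8.x KK r c := by
  have h := coe_xc e8T (K := KK) (by rw [nr]; exact hr : r < chevE8.nroots) c
  rw [xr, h]
  rfl

theorem xr_add {r : ℕ} (hr : r < 240) (a b : KK) : xr r a * xr r b = xr r (a + b) := by
  apply Subtype.ext
  apply Units.ext
  rw [Subgroup.coe_mul, Units.val_mul, coe_xr hr, coe_xr hr, coe_xr hr, x_add e8T.inList]

theorem xr_zero {r : ℕ} (hr : r < 240) : xr r 0 = 1 := by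
  apply Subtype.ext
  apply Units.ext
  rw [coe_xr hr, x_zero e8T.inList]
  rfl

/-- every entry of the chain table has height one -/
theorem chain_one {r s u : ℕ} (hr : r < 240) : ∀ km ∈ chevE8.chainCoeff r s u, km.1 = 1 := by
  intro km h
  have hk := okRow_spec hr
  unfold okRow at hk
  rw [Bool.and_eq_true] at hk
  unfold chainCoeff at h
  obtain ⟨e, he, h1⟩ := List.mem_flatMap.1 h
  obtain ⟨q, hq, rfl⟩ := List.mem_map.1 h1
  have h4 := List.all_eq_true.1 hk.1 e (List.mem_of_mem_filter he)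
  simp only [Bool.and_eq_true, decide_eq_true_eq] at h4
  obtain ⟨x, hx⟩ := List.length_eq_one_iff.1 h4.1.1.2
  have h5 := List.mem_of_mem_filter hq
  rw [hx, List.zipIdx_singleton, List.mem_singleton] at h5
  rw [h5]

/-- the quadratic part of a root element -/
theorem sq_part {r : ℕ} (hr : r < 240) (w : LK) :
    ((coefE chevE8 r 2).map (Int.castRingHom KK)).mulVec w =
      w (Sum.inr ⟨239 - r, by rw [nr]; omega⟩) • er r := by
  have hr' : r < chevE8.nroots := by rw [nr]; exact hr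
  have hn : 239 - r < chevE8.nroots := by rw [nr]; omega
  have key : ∀ a c : chevE8.Idx, ((coefE chevE8 r 2 a c : ℤ) : KK) =
      if c = Sum.inr ⟨239 - r, hn⟩ ∧ a = Sum.inr ⟨r, hr'⟩ then 1 else 0 := by
    intro a c
    rw [coefE_entry chevE8 r 2 hr', neg_eq hr]
    rcases c with c | c
    · have h0 : ¬ ((Sum.inl c : chevE8.Idx) = Sum.inr ⟨239 - r, hn⟩ ∧ a = Sum.inr ⟨r, hr'⟩) := fun h => by simp at h
      rw [if_neg h0]
      rcases a with a | a <;> simp
    · by_cases h1 : (c : ℕ) = r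
      · have h0 : ¬ ((Sum.inr c : chevE8.Idx) = Sum.inr ⟨239 - r, hn⟩ ∧ a = Sum.inr ⟨r, hr'⟩) := fun h => by
          have h2 : (c : ℕ) = 239 - r := congrArg Fin.val (Sum.inr.inj h.1)
          omega
        rw [if_neg h0]
        simp only [if_pos h1]
        rcases a with a | a <;> simp
      · by_cases h2 : (c : ℕ) = 239 - r
        · simp only [if_neg h1, if_pos h2]
          have hc : c = ⟨239 - r, hn⟩ := Fin.ext h2
          rcases a with a | a
          · have h0 : ¬ ((Sum.inr c : chevE8.Idx) = Sum.inr ⟨239 - r, hn⟩ ∧ (Sum.inl a : chevE8.Idx) = Sum.inr ⟨r, hr'⟩) :=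
              fun h => by simp at h
            rw [if_neg h0]
            simp
          · by_cases h3 : (a : ℕ) = r
            · have ha : a = ⟨r, hr'⟩ := Fin.ext h3
              have h0 : ((Sum.inr c : chevE8.Idx) = Sum.inr ⟨239 - r, hn⟩ ∧ (Sum.inr a : chevE8.Idx) = Sum.inr ⟨r, hr'⟩) :=
                ⟨by rw [hc], by rw [ha]⟩
              rw [if_pos h0]
              have h4 : a ≠ c := fun h => h1 (by rw [← h]; exact h3)
              simp only [if_neg h4]
              rw [if_pos ⟨trivial, h3⟩, Int.cast_neg, Int.cast_one, neg_eq_iff_add_eq_zero]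
              have h5 : (1 : KK) + 1 = 0 := by rw [one_add_one_eq_two]; exact two_zero
              exact h5
            · have h0 : ¬ ((Sum.inr c : chevE8.Idx) = Sum.inr ⟨239 - r, hn⟩ ∧ (Sum.inr a : chevE8.Idx) = Sum.inr ⟨r, hr'⟩) :=
                fun h => h3 (congrArg Fin.val (Sum.inr.inj h.2))
              rw [if_neg h0]
              simp [h3]
        · have h0 : ¬ ((Sum.inr c : chevE8.Idx) = Sum.inr ⟨239 - r, hn⟩ ∧ a = Sum.inr ⟨r, hr'⟩) :=
            fun h => h2 (congrArg Fin.val (Sum.inr.inj h.1))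
          rw [if_neg h0]
          simp only [if_neg h1, if_neg h2]
          rcases a with a | a
          · simp
          · show (((if 2 = 0 ∧ a = c then 1 else 0) + ((chevE8.chainCoeff r (c : ℕ) (a : ℕ)).map
              fun km : ℕ × ℤ => if km.1 = 2 then km.2 else 0).sum : ℤ) : KK) = 0
            rw [if_neg (by simp), zero_add]
            have : ((chevE8.chainCoeff r (c : ℕ) (a : ℕ)).map fun km : ℕ × ℤ => if km.1 = 2 then km.2 else 0).sum = 0 := by
              apply List.sum_eq_zero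
              intro x hx
              obtain ⟨km, hkm, rfl⟩ := List.mem_map.1 hx
              rw [chain_one hr km hkm]
              simp
            rw [this, Int.cast_zero]
  funext a
  rw [Matrix.mulVec, dotProduct, Pi.smul_apply, smul_eq_mul, er_of hr']
  have h1 : ∀ c, ((coefE chevE8 r 2).map (Int.castRingHom KK)) a c = ((coefE chevE8 r 2 a c : ℤ) : KK) := fun c => rfl
  rw [Finset.sum_eq_single (Sum.inr ⟨239 - r, hn⟩)]
  · rw [h1, key]
    by_cases h : a = Sum.inr ⟨r, hr'⟩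
    · rw [if_pos ⟨rfl, h⟩, h, Pi.single_eq_same, one_mul, mul_one]
    · rw [if_neg (fun h2 => h h2.2), Pi.single_eq_of_ne h, zero_mul, mul_zero]
  · intro c _ hc
    rw [h1, key, if_neg (fun h => hc h.1), zero_mul]
  · intro h
    exact absurd (Finset.mem_univ _) h

/-- **the action of a root element** -/
theorem aK_xr {r : ℕ} (hr : r < 240) (c : KK) (w : LK) : aK (xr r c) w =
    w + c • brK (er r) w + (c ^ 2 * w (Sum.inr ⟨239 - r, by rw [nr]; omega⟩)) • er r := by
  have hr' : r < chevE8.nroots := by rw [nr]; exact hr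
  unfold aK
  rw [coe_xr hr, Cfsg.Agent.H971.RV.x_eq_three lac8 hr', Matrix.add_mulVec, Matrix.add_mulVec, Matrix.one_mulVec,
    Matrix.smul_mulVec, Matrix.smul_mulVec, sq_part hr, smul_smul]
  congr 3
  show _ = (adv (adR chevE8 KK) (er r)).mulVec w
  rw [er_of hr', adv_single_one]
  rfl

theorem er_inr {a : ℕ} (s : Fin chevE8.nroots) : er a (Sum.inr s) = if a = s then 1 else 0 := by
  by_cases h : a < chevE8.nroots
  · rw [er_of h]
    by_cases h1 : a = s
    · subst h1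
      rw [if_pos rfl]
      exact Pi.single_eq_same _ _
    · rw [if_neg h1]
      exact Pi.single_eq_of_ne (fun h2 => h1 (congrArg Fin.val (Sum.inr.inj h2)).symm) _
  · rw [er_ge (by rw [nr] at h; omega), if_neg (fun h1 => h (by rw [h1]; exact s.2))]
    rfl

theorem hr_inr (a : ℕ) (s : Fin chevE8.nroots) : hr a (Sum.inr s) = 0 := rfl

theorem add_self' (v : LK) : v + v = 0 := by
  rw [← two_smul KK, two_zero, zero_smul]

/-- a root element with the parameter one on a root vector -/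
theorem aK_xr_er {r a : ℕ} (h : r < 240) (ha : a < 240) (hn : a ≠ 239 - r) (c : KK) :
    aK (xr r c) (er a) = er a + c • er (tg r a) := by
  rw [aK_xr h, br_rr h ha hn, er_inr, if_neg hn, mul_zero, zero_smul, add_zero]

theorem aK_xr_neg {r : ℕ} (h : r < 240) (c : KK) :
    aK (xr r c) (er (239 - r)) = er (239 - r) + c • hr r + c ^ 2 • er r := by
  rw [aK_xr h, br_neg h, er_inr, if_pos rfl, mul_one]

theorem tg_self {r : ℕ} (h : r < 240) : tg r r = 240 := by
  obtain ⟨-, h2, h3⟩ := chain_mod (s := r) (u := 0) h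
  by_contra h4
  exact (h2 (by omega)).1 rfl

theorem aK_xr_self {r : ℕ} (h : r < 240) (c : KK) : aK (xr r c) (er r) = er r := by
  rw [aK_xr_er h h (by omega), tg_self h, er_ge le_rfl, smul_zero, add_zero]

/-- `⟨r, r⟩ = 2` -/
theorem br_hr_self {r : ℕ} (h : r < 240) : brK (er r) (hr r) = 0 := by
  have h1 : aK (xr r 1) (aK (xr r 1) (er (239 - r))) = er (239 - r) := by
    rw [← aK_mul, xr_add h]
    have : (1 : KK) + 1 = 0 := by rw [one_add_one_eq_two]; exact two_zero
    rw [this, xr_zero h, aK_one]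
  rw [aK_xr_neg h, one_smul, one_pow, one_smul, aK_add, aK_add, aK_xr_neg h, aK_xr_self h, aK_xr h 1 (hr r), one_smul,
    one_smul, one_pow, one_smul, hr_inr, mul_zero, zero_smul, add_zero] at h1
  have h2 : er (239 - r) + hr r + er r + (hr r + brK (er r) (hr r)) + er r =
      er (239 - r) + brK (er r) (hr r) + (hr r + hr r) + (er r + er r) := by abel
  rw [h2, add_self', add_self', add_zero, add_zero] at h1
  exact add_eq_left.1 h1

theorem aK_xr_hr {r : ℕ} (h : r < 240) (c : KK) : aK (xr r c) (hr r) = hr r := by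
  rw [aK_xr h, br_hr_self h, smul_zero, hr_inr, mul_zero, zero_smul, add_zero, add_zero]

/-- the reflection elements -/
noncomputable def nn (r : ℕ) : ↥(chevE8.group KK) := xr r 1 * xr (239 - r) 1 * xr r 1

theorem nn_apply (r : ℕ) (v : LK) : aK (nn r) v = aK (xr r 1) (aK (xr (239 - r) 1) (aK (xr r 1) v)) := by
  unfold nn
  rw [aK_mul, aK_mul]

/-- the index of `s_r a` -/
def rf (r a : ℕ) : ℕ :=
  if a = r then 239 - r else if a = 239 - r then r else
    if tg r a < 240 then tg r a else if tg (239 - r) a < 240 then tg (239 - r) a else a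

/-- the check for one root -/
def okN (r : ℕ) : Bool := (List.range 240).all fun a => decide (a = r) || decide (a = 239 - r) ||
  (if tg r a < 240 then decide (tg (239 - r) a = 240 ∧ tg (239 - r) (tg r a) = a ∧ tg r (tg r a) = 240 ∧ tg r a ≠ 239 - r ∧ tg r a ≠ r)
    else if tg (239 - r) a < 240 then decide (tg r (tg (239 - r) a) = a ∧ tg (239 - r) (tg (239 - r) a) = 240 ∧ tg (239 - r) a ≠ 239 - r ∧
      tg (239 - r) a ≠ r) else true)

theorem aK_nn_self {r : ℕ} (h : r < 240) : aK (nn r) (er r) = er (239 - r) := by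
  have h' : 239 - r < 240 := by omega
  have e : 239 - (239 - r) = r := by omega
  have h1 := aK_xr_neg h' 1
  rw [e] at h1
  rw [nn_apply, aK_xr_self h, h1, one_smul, one_pow, one_smul, aK_add, aK_add, aK_xr_self h, hr_neg h, aK_xr_hr h,
    aK_xr_neg h, one_smul, one_pow, one_smul]
  have h2 : er r + hr r + (er (239 - r) + hr r + er r) = er (239 - r) + (hr r + hr r) + (er r + er r) := by abel
  rw [h2, add_self', add_self', add_zero, add_zero]

theorem aK_nn_neg {r : ℕ} (h : r < 240) : aK (nn r) (er (239 - r)) = er r := by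
  have h' : 239 - r < 240 := by omega
  have e : 239 - (239 - r) = r := by omega
  have h1 := aK_xr_neg h' 1
  rw [e] at h1
  have h3 := aK_xr_hr h' 1
  rw [hr_neg h] at h3
  have h5 : aK (xr (239 - r) 1) (er (239 - r) + hr r + er r) = er r := by
    rw [aK_add, aK_add, aK_xr_self h', h1, h3, hr_neg h, one_smul, one_pow, one_smul]
    have h2 : er (239 - r) + hr r + (er r + hr r + er (239 - r)) = er r + (hr r + hr r) + (er (239 - r) + er (239 - r)) := by abel
    rw [h2, add_self', add_self', add_zero, add_zero]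
  rw [nn_apply, aK_xr_neg h, one_smul, one_pow, one_smul, h5, aK_xr_self h]

/-- **the reflection elements permute the root vectors** -/
theorem aK_nn {r a : ℕ} (h : r < 240) (hk : okN r = true) (ha : a < 240) : aK (nn r) (er a) = er (rf r a) ∧ rf r a < 240 := by
  have h' : 239 - r < 240 := by omega
  unfold rf
  by_cases h1 : a = r
  · subst h1
    rw [if_pos rfl]
    exact ⟨aK_nn_self h, h'⟩
  rw [if_neg h1]
  by_cases h2 : a = 239 - r
  · subst h2
    rw [if_pos rfl]
    exact ⟨aK_nn_neg h, h⟩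
  rw [if_neg h2]
  have h3 := List.all_eq_true.1 hk a (List.mem_range.2 ha)
  rw [decide_eq_false h1, decide_eq_false h2, Bool.false_or, Bool.false_or] at h3
  have hra : a ≠ 239 - (239 - r) := by omega
  by_cases h4 : tg r a < 240
  · rw [if_pos h4] at h3 ⊢
    obtain ⟨b1, b2, b3, b4, b5⟩ := of_decide_eq_true h3
    refine ⟨?_, h4⟩
    rw [nn_apply, aK_xr_er h ha h2, one_smul, aK_add, aK_xr_er h' ha hra, b1, er_ge le_rfl, smul_zero, add_zero,
      aK_xr_er h' h4 (by omega), b2, one_smul]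
    have e1 : er a + (er (tg r a) + er a) = er (tg r a) + (er a + er a) := by abel
    rw [e1, add_self', add_zero, aK_xr_er h h4 b4, b3, er_ge le_rfl, smul_zero, add_zero]
  · rw [if_neg h4] at h3 ⊢
    have h5 : tg r a = 240 := by have := tg_le h a; omega
    by_cases h6 : tg (239 - r) a < 240
    · rw [if_pos h6] at h3 ⊢
      obtain ⟨b2, b3, b4, b5⟩ := of_decide_eq_true h3
      refine ⟨?_, h6⟩
      rw [nn_apply, aK_xr_er h ha h2, h5, er_ge le_rfl, smul_zero, add_zero, aK_xr_er h' ha hra, one_smul, aK_add,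
        aK_xr_er h ha h2, h5, er_ge le_rfl, smul_zero, add_zero, aK_xr_er h h6 b4, b2, one_smul]
      have e1 : er a + (er (tg (239 - r) a) + er a) = er (tg (239 - r) a) + (er a + er a) := by abel
      rw [e1, add_self', add_zero]
    · have h7 : tg (239 - r) a = 240 := by have := tg_le h' a; omega
      rw [if_neg h6]
      refine ⟨?_, ha⟩
      rw [nn_apply, aK_xr_er h ha h2, h5, er_ge le_rfl, smul_zero, add_zero, aK_xr_er h' ha hra, h7, er_ge le_rfl,
        smul_zero, add_zero, aK_xr_er h ha h2, h5, er_ge le_rfl, smul_zero, add_zero]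

/-- an element permuting two opposite pairs of root vectors on the Cartan vectors -/
theorem aK_hr {g : ↥(chevE8.group KK)} {a b : ℕ} (ha : a < 240) (hb : b < 240) (h1 : aK g (er a) = er b)
    (h2 : aK g (er (239 - a)) = er (239 - b)) : aK g (hr a) = hr b := by
  rw [← br_neg ha, aK_brK, h1, h2, br_neg hb]

end Cfsg.Agent.H413.L16

private theorem dce_a5b85f4a3014 : _root_.True := by
  try have : _root_.True := by simp only [_root_.Cfsg.Agent.H413.L16.xr.eq_1]
  exact _root_.True.intro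
end

-- part: H950/L16/Stab
section
prune_inst 0x20000180000000000400400009000000000000002440200800000000800200010000020004000000048010000200200000000000400000400000880000020000000000008000000000000000000020000000000000000000004000000000
set_option linter.all false
open scoped Cfsg.Agent.FastGrp

-- part: H950/L16/GOne
section
/-!
# S5916: G1 (helper950): the centraliser of an element of order 17 in a group with generalized Fitting subgroup `L₂(16)`
-/

set_option autoImplicit false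
set_option linter.unusedSectionVars false
set_option linter.style.haveILetI false

namespace Cfsg.Agent.H950.L16

open Matrix Cfsg.Agent.H434.E8L
open Cfsg.Agent.ClassicalGeometry.AutPSL.Auto Cfsg.Agent.ClassicalGeometry.AutPSL.Main
open Cfsg.Agent.ClassicalGeometry.AutPSL.Root

section Fld

variable {F : Type*} [Field F] [Fintype F]

theorem charP_two (hF : Fintype.card F = 16) : CharP F 2 := by
  obtain ⟨⟨m, hm⟩, hp', hc⟩ := FiniteField.card F (ringChar F)
  rw [hF] at hc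
  have h1 : ringChar F ∣ 2 ^ 4 := by
    rw [show (2 : ℕ) ^ 4 = 16 by norm_num, hc]
    exact dvd_pow_self _ (by simpa using hm.ne')
  have h2 := (Nat.prime_dvd_prime_iff_eq hp' Nat.prime_two).1 (hp'.dvd_of_dvd_pow h1)
  exact h2 ▸ ringChar.charP F

/-- an element of order 17 of `SL₂(16)` has the eigenvalues `ζ`, `ζ⁻¹`, `ζ` of order 17 -/
theorem exists_zeta (hF : Fintype.card F = 16) {Y : _root_.Matrix.SpecialLinearGroup (Fin 2) F} (hY : orderOf Y = 17) :
    ∃ ζ : AlgebraicClosure F, IsPrimitiveRoot ζ 17 ∧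
      algebraMap F (AlgebraicClosure F) (Y.1 0 0 + Y.1 1 1) = ζ + ζ⁻¹ := by
  haveI := charP_two hF
  haveI : CharP (AlgebraicClosure F) 2 := charP_of_injective_algebraMap (algebraMap F (AlgebraicClosure F)).injective 2
  set K := AlgebraicClosure F with hK
  set ι := algebraMap F K with hι
  set t : K := ι (Y.1 0 0 + Y.1 1 1) with ht
  -- a root
  obtain ⟨ζ, hζ⟩ := IsAlgClosed.exists_root (Polynomial.X ^ 2 + Polynomial.C t * Polynomial.X + 1 : Polynomial K) (by
    have : (Polynomial.X ^ 2 + Polynomial.C t * Polynomial.X + 1 : Polynomial K).degree = 2 := by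
      compute_degree!
    rw [this]
    decide)
  have hroot : ζ ^ 2 + t * ζ + 1 = 0 := by
    have := hζ
    simp only [Polynomial.IsRoot, Polynomial.eval_add, Polynomial.eval_pow, Polynomial.eval_X, Polynomial.eval_mul,
      Polynomial.eval_C, Polynomial.eval_one] at this
    exact this
  have hζ0 : ζ ≠ 0 := by
    rintro rfl
    simp at hroot
  have htz : t = ζ + ζ⁻¹ := by
    have h1 : t * ζ = (ζ + ζ⁻¹) * ζ := by
      rw [add_mul, inv_mul_cancel₀ hζ0]
      have h2 : t * ζ = -(ζ ^ 2 + 1) := by linear_combination hroot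
      rw [h2, CharTwo.neg_eq]
      ring
    exact mul_right_cancel₀ hζ0 h1
  set M : Matrix (Fin 2) (Fin 2) K := Y.1.map ι with hM
  have hdet : M 0 0 * M 1 1 - M 0 1 * M 1 0 = 1 := by
    have h1 := Y.2
    rw [Matrix.det_fin_two] at h1
    have h2 := congrArg ι h1
    rw [map_sub, map_mul, map_mul, map_one] at h2
    exact h2
  have htr : M 0 0 + M 1 1 = ζ + ζ⁻¹ := by
    rw [← htz, ht, map_add]
    rfl
  have hCH : M * M = (ζ + ζ⁻¹) • M - 1 := by
    ext i j
    rw [Matrix.mul_apply, Fin.sum_univ_two, Matrix.sub_apply, Matrix.smul_apply, smul_eq_mul, ← htr]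
    fin_cases i <;> fin_cases j
    · show M 0 0 * M 0 0 + M 0 1 * M 1 0 = (M 0 0 + M 1 1) * M 0 0 - (1 : Matrix (Fin 2) (Fin 2) K) 0 0
      rw [Matrix.one_apply_eq]
      linear_combination -hdet
    · show M 0 0 * M 0 1 + M 0 1 * M 1 1 = (M 0 0 + M 1 1) * M 0 1 - (1 : Matrix (Fin 2) (Fin 2) K) 0 1
      rw [Matrix.one_apply_ne (by decide)]
      ring
    · show M 1 0 * M 0 0 + M 1 1 * M 1 0 = (M 0 0 + M 1 1) * M 1 0 - (1 : Matrix (Fin 2) (Fin 2) K) 1 0
      rw [Matrix.one_apply_ne (by decide)]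
      ring
    · show M 1 0 * M 0 1 + M 1 1 * M 1 1 = (M 0 0 + M 1 1) * M 1 1 - (1 : Matrix (Fin 2) (Fin 2) K) 1 1
      rw [Matrix.one_apply_eq]
      linear_combination -hdet
  have key : ∀ n : ℕ, (ζ - ζ⁻¹) • M ^ (n + 1) = (ζ ^ (n + 1) - ζ⁻¹ ^ (n + 1)) • M - (ζ ^ n - ζ⁻¹ ^ n) • 1 := by
    intro n
    induction n with
    | zero => simp
    | succ n ih =>
      rw [pow_succ M (n + 1), ← smul_mul_assoc, ih, sub_mul, smul_mul_assoc, hCH, smul_mul_assoc, one_mul, smul_sub,
        smul_smul]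
      have e1 : (ζ ^ (n + 1) - ζ⁻¹ ^ (n + 1)) * (ζ + ζ⁻¹) = (ζ ^ (n + 1 + 1) - ζ⁻¹ ^ (n + 1 + 1)) +
          (ζ ^ n - ζ⁻¹ ^ n) := by
        have e2 : ζ * ζ⁻¹ = 1 := mul_inv_cancel₀ hζ0
        rw [pow_succ ζ (n + 1), pow_succ ζ⁻¹ (n + 1), pow_succ ζ n, pow_succ ζ⁻¹ n]
        linear_combination (ζ ^ n - ζ⁻¹ ^ n) * e2
      rw [e1, add_smul]
      abel
  have hinj : Function.Injective (fun X : Matrix (Fin 2) (Fin 2) F => X.map ι) := Matrix.map_injective ι.injective
  have hpow : ∀ n, (Y ^ n).1.map ι = M ^ n := by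
    intro n
    have h5 := map_pow (RingHom.mapMatrix ι) Y.1 n
    exact h5
  have hYn : ∀ n, Y ^ n = 1 ↔ M ^ n = 1 := by
    intro n
    rw [← hpow]
    constructor
    · intro h
      rw [h]
      exact Matrix.map_one _ (map_zero ι) (map_one ι)
    · intro h
      refine Subtype.ext (hinj ?_)
      show (Y ^ n).1.map ι = (1 : Matrix (Fin 2) (Fin 2) F).map ι
      rw [h, Matrix.map_one _ (map_zero ι) (map_one ι)]
  -- `ζ ≠ ζ⁻¹`
  have hne : ζ - ζ⁻¹ ≠ 0 := by
    intro h0
    have h1 : ζ + ζ⁻¹ = 0 := by rw [← h0, CharTwo.sub_eq_add]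
    have h2 : Y ^ 2 = 1 := by
      rw [hYn, pow_two, hCH, h1, zero_smul, zero_sub, ← one_smul K (1 : Matrix (Fin 2) (Fin 2) K), ← neg_smul,
        CharTwo.neg_eq]
    have h3 := orderOf_dvd_of_pow_eq_one h2
    rw [hY] at h3
    omega
  -- `ζ ^ 17 = 1`
  have hsing : (M - ζ • (1 : Matrix (Fin 2) (Fin 2) K)).det = 0 := by
    rw [Matrix.det_fin_two]
    simp only [Matrix.sub_apply, Matrix.smul_apply, smul_eq_mul, Matrix.one_apply_eq, mul_one,
      Matrix.one_apply_ne (show (0 : Fin 2) ≠ 1 by decide), Matrix.one_apply_ne (show (1 : Fin 2) ≠ 0 by decide),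
      mul_zero, sub_zero]
    have e2 : ζ * ζ⁻¹ = 1 := mul_inv_cancel₀ hζ0
    linear_combination hdet - ζ * htr - e2
  obtain ⟨v, hv0, hv⟩ := (Matrix.exists_mulVec_eq_zero_iff).2 hsing
  have hMv : M *ᵥ v = ζ • v := by
    rw [Matrix.sub_mulVec, Matrix.smul_mulVec, Matrix.one_mulVec, sub_eq_zero] at hv
    exact hv
  have hMn : ∀ n : ℕ, M ^ n *ᵥ v = ζ ^ n • v := by
    intro n
    induction n with
    | zero => rw [pow_zero, pow_zero, one_smul, Matrix.one_mulVec]
    | succ n ih => rw [pow_succ', ← Matrix.mulVec_mulVec, ih, Matrix.mulVec_smul, hMv, smul_smul, pow_succ]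
  have h17 : ζ ^ 17 = 1 := by
    have h1 := hMn 17
    rw [(hYn 17).1 (by rw [← hY]; exact pow_orderOf_eq_one Y), Matrix.one_mulVec] at h1
    have h2 : (ζ ^ 17 - 1) • v = 0 := by rw [sub_smul, one_smul, ← h1, sub_self]
    exact sub_eq_zero.1 ((smul_eq_zero.1 h2).resolve_right hv0)
  refine ⟨ζ, ⟨h17, fun l hl => ?_⟩, htz⟩
  rcases Nat.eq_zero_or_pos l with rfl | hl0
  · exact dvd_zero _
  obtain ⟨n, rfl⟩ := Nat.exists_eq_succ_of_ne_zero hl0.ne'
  have h1 := key n
  have h3 : ζ⁻¹ ^ (n + 1) = 1 := by rw [inv_pow, hl, inv_one]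
  have h4 : ζ ^ n = ζ⁻¹ := by
    refine eq_inv_of_mul_eq_one_left ?_
    rw [← pow_succ]
    exact hl
  have h5 : ζ⁻¹ ^ n = ζ := by rw [inv_pow, h4, inv_inv]
  rw [h3, show ζ ^ (n + 1) = 1 from hl, sub_self, zero_smul, h4, h5, zero_sub, ← neg_smul, neg_sub] at h1
  have h2 : M ^ (n + 1) = 1 := by
    have h6 := congrArg (fun X => (ζ - ζ⁻¹)⁻¹ • X) h1
    simp only [smul_smul, inv_mul_cancel₀ hne, one_smul] at h6
    exact h6
  rw [← hY]
  exact orderOf_dvd_of_pow_eq_one ((hYn _).2 h2)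

/-- powers of `2` -/
theorem aut_pow16 (hF : Fintype.card F = 16) (σ : F ≃+* F) : ∃ i < 4, ∀ x, σ x = x ^ 2 ^ i := by
  have := charP_two hF
  have h3 : Fact (Nat.Prime 2) := ⟨Nat.prime_two⟩
  let _ : Algebra (ZMod 2) F := ZMod.algebra F 2
  let σ' : F →ₐ[ZMod 2] F :=
    { (σ : F →+* F) with
      commutes' := fun a => RingHom.congr_fun
        (Subsingleton.elim ((σ : F →+* F).comp (algebraMap (ZMod 2) F)) (algebraMap (ZMod 2) F)) a }
  obtain ⟨n, hn⟩ := (FiniteField.bijective_frobeniusAlgHom_pow (ZMod 2) F).2 σ'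
  have hfr : Module.finrank (ZMod 2) F = 4 := by
    have h1 := Module.card_eq_pow_finrank (K := ZMod 2) (V := F)
    rw [hF, ZMod.card] at h1
    have : (2 : ℕ) ^ 4 = 2 ^ Module.finrank (ZMod 2) F := by rw [← h1]; norm_num
    exact (Nat.pow_right_injective le_rfl this).symm
  refine ⟨n, by have := n.2; omega, fun x => ?_⟩
  have h5 : σ x = σ' x := rfl
  rw [h5, ← hn]
  have h6 : ∀ (m : ℕ) (x : F), ((FiniteField.frobeniusAlgHom (ZMod 2) F) ^ m) x = x ^ 2 ^ m := by
    intro m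
    induction m with
    | zero => intro x; simp
    | succ m ih =>
      intro x
      rw [pow_succ, AlgHom.mul_apply, ih, FiniteField.frobeniusAlgHom_apply, ZMod.card, ← pow_mul, pow_succ']
  exact h6 n x

/-- a field automorphism fixing the trace is trivial -/
theorem aut_trivial (hF : Fintype.card F = 16) {Y : _root_.Matrix.SpecialLinearGroup (Fin 2) F} (hY : orderOf Y = 17) (σ : F ≃+* F)
    (hσ : σ (Y.1 0 0 + Y.1 1 1) = Y.1 0 0 + Y.1 1 1) : σ = RingEquiv.refl F := by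
  haveI := charP_two hF
  haveI : CharP (AlgebraicClosure F) 2 := charP_of_injective_algebraMap (algebraMap F (AlgebraicClosure F)).injective 2
  obtain ⟨i, hi4, hi⟩ := aut_pow16 hF σ
  obtain ⟨ζ, hζ, ht⟩ := exists_zeta hF hY
  have hζ0 : ζ ≠ 0 := hζ.ne_zero (by decide)
  rcases Nat.eq_zero_or_pos i with rfl | hi0
  · apply RingEquiv.ext
    intro x
    rw [hi, pow_zero, pow_one]
    rfl
  exfalso
  rw [hi] at hσ
  have h1 := congrArg (algebraMap F (AlgebraicClosure F)) hσ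
  rw [map_pow, ht, add_pow_char_pow] at h1
  have h2 : (ζ ^ 2 ^ i - ζ) * (ζ ^ 2 ^ i - ζ⁻¹) = 0 := by
    have h3 : ζ ^ 2 ^ i * ζ⁻¹ ^ 2 ^ i = 1 := by rw [← mul_pow, mul_inv_cancel₀ hζ0, one_pow]
    have e2 : ζ * ζ⁻¹ = 1 := mul_inv_cancel₀ hζ0
    linear_combination (ζ ^ 2 ^ i) * h1 - h3 + e2
  have h5 : ∀ n : ℕ, ζ ^ n = 1 → 17 ∣ n := hζ.2
  rcases mul_eq_zero.1 h2 with h3 | h3
  · have h4 : ζ ^ (2 ^ i - 1) = 1 := by
      have h6 : ζ ^ (2 ^ i - 1) * ζ = 1 * ζ := by
        rw [← pow_succ, Nat.sub_add_cancel Nat.one_le_two_pow, one_mul]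
        exact sub_eq_zero.1 h3
      exact mul_right_cancel₀ hζ0 h6
    have h7 := h5 _ h4
    revert h7
    interval_cases i <;> decide
  · have h4 : ζ ^ (2 ^ i + 1) = 1 := by
      rw [pow_succ, sub_eq_zero.1 h3, inv_mul_cancel₀ hζ0]
    have h7 := h5 _ h4
    revert h7
    interval_cases i <;> decide

/-- the centraliser of `Y` in `SL₂(16)` -/
theorem cent17 (hF : Fintype.card F = 16) {Y D : _root_.Matrix.SpecialLinearGroup (Fin 2) F} (hY : orderOf Y = 17)
    (hD : D * Y = Y * D) : ∃ i : ℕ, D = Y ^ i := by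
  haveI := charP_two hF
  haveI : CharP (AlgebraicClosure F) 2 := charP_of_injective_algebraMap (algebraMap F (AlgebraicClosure F)).injective 2
  obtain ⟨ζ, hζ, ht⟩ := exists_zeta hF hY
  set ι := algebraMap F (AlgebraicClosure F) with hι
  have hζ0 : ζ ≠ 0 := hζ.ne_zero (by decide)
  have hzinv : ζ * ζ⁻¹ = 1 := mul_inv_cancel₀ hζ0
  have hq : ∀ a : F, a ^ 16 = a := fun a => by rw [← hF]; exact FiniteField.pow_card a
  -- `ζ` is not in `F`
  have hnF : ∀ a : F, ι a ≠ ζ := by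
    intro a ha
    have h1 : ζ ^ 16 = ζ := by rw [← ha, ← map_pow, hq]
    have h2 : ζ ^ 15 = 1 := by
      have h3 : ζ ^ 15 * ζ = 1 * ζ := by rw [← pow_succ, one_mul]; exact h1
      exact mul_right_cancel₀ hζ0 h3
    have := hζ.2 15 h2
    omega
  have hdet : Y.1 0 0 * Y.1 1 1 - Y.1 0 1 * Y.1 1 0 = 1 := by
    have h1 := Y.2
    rwa [Matrix.det_fin_two] at h1
  -- `Y 1 0 ≠ 0`
  have hY10 : Y.1 1 0 ≠ 0 := by
    intro h0
    rw [h0, mul_zero, sub_zero] at hdet
    have h1 : (ι (Y.1 0 0) - ζ) * (ι (Y.1 1 1) - ζ) = 0 := by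
      have h2 := congrArg ι hdet
      rw [map_mul, map_one] at h2
      rw [map_add] at ht
      linear_combination h2 - ζ * ht - hzinv
    rcases mul_eq_zero.1 h1 with h2 | h2
    · exact hnF _ (sub_eq_zero.1 h2)
    · exact hnF _ (sub_eq_zero.1 h2)
  -- elements commuting with `Y`
  have hlin : ∀ X : _root_.Matrix.SpecialLinearGroup (Fin 2) F, X * Y = Y * X → ∃ a b : F, X.1 = a • 1 + b • Y.1 := by
    intro X hX
    have hm : X.1 * Y.1 = Y.1 * X.1 := congrArg Subtype.val hX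
    have e00 := congrFun (congrFun hm 0) 0
    have e10 := congrFun (congrFun hm 1) 0
    rw [Matrix.mul_apply, Matrix.mul_apply, Fin.sum_univ_two, Fin.sum_univ_two] at e00 e10
    refine ⟨X.1 0 0 - X.1 1 0 * (Y.1 1 0)⁻¹ * Y.1 0 0, X.1 1 0 * (Y.1 1 0)⁻¹, ?_⟩
    ext i j
    rw [Matrix.add_apply, Matrix.smul_apply, Matrix.smul_apply, smul_eq_mul, smul_eq_mul]
    fin_cases i <;> fin_cases j
    · show X.1 0 0 = _ * (1 : Matrix (Fin 2) (Fin 2) F) 0 0 + _ * Y.1 0 0
      rw [Matrix.one_apply_eq]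
      ring
    · show X.1 0 1 = _ * (1 : Matrix (Fin 2) (Fin 2) F) 0 1 + _ * Y.1 0 1
      have h3 : X.1 0 1 * Y.1 1 0 = X.1 1 0 * Y.1 0 1 := by linear_combination e00
      rw [Matrix.one_apply_ne (by decide), mul_zero, zero_add, mul_right_comm, ← h3, mul_assoc, mul_inv_cancel₀ hY10,
        mul_one]
    · show X.1 1 0 = _ * (1 : Matrix (Fin 2) (Fin 2) F) 1 0 + _ * Y.1 1 0
      rw [Matrix.one_apply_ne (by decide), mul_zero, zero_add, mul_assoc, inv_mul_cancel₀ hY10, mul_one]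
    · show X.1 1 1 = _ * (1 : Matrix (Fin 2) (Fin 2) F) 1 1 + _ * Y.1 1 1
      rw [Matrix.one_apply_eq, mul_one]
      have h3 : (X.1 1 1 - X.1 0 0) * Y.1 1 0 = X.1 1 0 * (Y.1 1 1 - Y.1 0 0) := by linear_combination e10
      have h4 : X.1 1 1 - X.1 0 0 = X.1 1 0 * (Y.1 1 0)⁻¹ * (Y.1 1 1 - Y.1 0 0) := by
        rw [mul_assoc, mul_comm (Y.1 1 0)⁻¹, ← mul_assoc, ← h3, mul_assoc, mul_inv_cancel₀ hY10, mul_one]
      linear_combination h4
  -- the eigenvalue
  have hnorm : ∀ (X : _root_.Matrix.SpecialLinearGroup (Fin 2) F) (a b : F), X.1 = a • 1 + b • Y.1 →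
      (ι a + ι b * ζ) ^ 17 = 1 := by
    intro X a b hX
    have h1 := X.2
    rw [hX, Matrix.det_fin_two] at h1
    simp only [Matrix.add_apply, Matrix.smul_apply, smul_eq_mul, Matrix.one_apply_eq, mul_one,
      Matrix.one_apply_ne (show (0 : Fin 2) ≠ 1 by decide), Matrix.one_apply_ne (show (1 : Fin 2) ≠ 0 by decide),
      mul_zero, zero_add] at h1
    have h2 : a ^ 2 + a * b * (Y.1 0 0 + Y.1 1 1) + b ^ 2 = 1 := by
      linear_combination h1 - b ^ 2 * hdet
    have h3 := congrArg ι h2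
    rw [map_add, map_add, map_mul, map_mul, map_pow, map_pow, map_one, ht] at h3
    have h16 : ζ ^ 16 = ζ⁻¹ := by
      refine eq_inv_of_mul_eq_one_left ?_
      rw [← pow_succ]
      exact hζ.pow_eq_one
    have h4 : (ι a + ι b * ζ) ^ 16 = ι a + ι b * ζ⁻¹ := by
      have h5 : (16 : ℕ) = 2 ^ 4 := by norm_num
      rw [h5, add_pow_char_pow, mul_pow, ← h5, ← map_pow, ← map_pow, hq, hq, h16]
    rw [pow_succ, h4]
    linear_combination h3 + (ι b ^ 2) * hzinv
  -- powers of `Y`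
  obtain ⟨a, b, hab⟩ := hlin D hD
  have hξ := hnorm D a b hab
  obtain ⟨i, -, hi⟩ := hζ.eq_pow_of_pow_eq_one hξ
  have hpw : ∀ n : ℕ, ∃ c d : F, (Y ^ n).1 = c • 1 + d • Y.1 ∧ ι c + ι d * ζ = ζ ^ n := by
    intro n
    induction n with
    | zero => exact ⟨1, 0, by rw [pow_zero, one_smul, zero_smul, add_zero]; rfl, by simp⟩
    | succ n ih =>
      obtain ⟨c, d, h1, h2⟩ := ih
      have hCH : Y.1 * Y.1 = (Y.1 0 0 + Y.1 1 1) • Y.1 - (1 : Matrix (Fin 2) (Fin 2) F) := by
        ext i j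
        rw [Matrix.mul_apply, Fin.sum_univ_two, Matrix.sub_apply, Matrix.smul_apply, smul_eq_mul]
        fin_cases i <;> fin_cases j
        · show Y.1 0 0 * Y.1 0 0 + Y.1 0 1 * Y.1 1 0 = (Y.1 0 0 + Y.1 1 1) * Y.1 0 0 - (1 : Matrix (Fin 2) (Fin 2) F) 0 0
          rw [Matrix.one_apply_eq]
          linear_combination -hdet
        · show Y.1 0 0 * Y.1 0 1 + Y.1 0 1 * Y.1 1 1 = (Y.1 0 0 + Y.1 1 1) * Y.1 0 1 - (1 : Matrix (Fin 2) (Fin 2) F) 0 1
          rw [Matrix.one_apply_ne (by decide)]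
          ring
        · show Y.1 1 0 * Y.1 0 0 + Y.1 1 1 * Y.1 1 0 = (Y.1 0 0 + Y.1 1 1) * Y.1 1 0 - (1 : Matrix (Fin 2) (Fin 2) F) 1 0
          rw [Matrix.one_apply_ne (by decide)]
          ring
        · show Y.1 1 0 * Y.1 0 1 + Y.1 1 1 * Y.1 1 1 = (Y.1 0 0 + Y.1 1 1) * Y.1 1 1 - (1 : Matrix (Fin 2) (Fin 2) F) 1 1
          rw [Matrix.one_apply_eq]
          linear_combination -hdet
      refine ⟨-d, c + d * (Y.1 0 0 + Y.1 1 1), ?_, ?_⟩
      · rw [pow_succ]
        show (Y ^ n).1 * Y.1 = _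
        rw [h1, add_mul, smul_mul_assoc, one_mul, smul_mul_assoc, hCH, smul_sub, smul_smul, neg_smul, add_smul]
        abel
      · rw [pow_succ, ← h2, map_neg, map_add, map_mul, ht]
        linear_combination (ι d) * hzinv
  obtain ⟨c, d, h1, h2⟩ := hpw i
  refine ⟨i, Subtype.ext ?_⟩
  have h3 : ι (a - c) = ι (d - b) * ζ := by
    rw [map_sub, map_sub]
    linear_combination -h2 - hi
  have h4 : d - b = 0 := by
    by_contra h0
    apply hnF ((a - c) * (d - b)⁻¹)
    rw [map_mul, h3, map_inv₀, mul_right_comm, mul_inv_cancel₀ ((map_ne_zero ι).2 h0), one_mul]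
  rw [h4, map_zero, zero_mul, map_eq_zero] at h3
  rw [hab, h1, sub_eq_zero.1 h3, sub_eq_zero.1 h4]

end Fld

section Grp

variable {F : Type*} [Field F] [Fintype F]

theorem psl_center16 (hF : Fintype.card F = 16) :
    Subgroup.center (Matrix.ProjectiveSpecialLinearGroup (Fin 2) F) = ⊥ := by
  have hPs : IsSimpleGroup (Matrix.ProjectiveSpecialLinearGroup (Fin 2) F) :=
    Matrix.ProjectiveSpecialLinearGroup.rank_two_simple (by rw [Nat.card_eq_fintype_card]; omega)
  have h1 : ¬ ∀ a b : Matrix.ProjectiveSpecialLinearGroup (Fin 2) F, a * b = b * a := fun h =>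
    Cfsg.Agent.ClassicalGeometry.PSL2Solvable.not_isSolvable_psl F (by omega)
      (Group.isSolvable_of_comm h)
  push Not at h1
  obtain ⟨a, b, hab⟩ := h1
  rcases (inferInstance : (Subgroup.center (Matrix.ProjectiveSpecialLinearGroup (Fin 2) F)).Normal).eq_bot_or_eq_top with h | h
  · exact h
  · exact absurd (Subgroup.mem_center_iff.1 (by rw [h]; exact Subgroup.mem_top b) a) hab

theorem sl_center16 (hF : Fintype.card F = 16) {z : _root_.Matrix.SpecialLinearGroup (Fin 2) F}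
    (hz : z ∈ Subgroup.center (_root_.Matrix.SpecialLinearGroup (Fin 2) F)) : z = 1 := by
  have := charP_two hF
  rw [Matrix.SpecialLinearGroup.mem_center_iff] at hz
  obtain ⟨r, hr, hrz⟩ := hz
  rw [Fintype.card_fin] at hr
  have h1 : r = 1 := by
    have h2 : (r - 1) ^ 2 = 0 := by
      rw [sub_sq, hr, one_pow]
      linear_combination (1 - r) * (CharTwo.two_eq_zero (R := F))
    exact sub_eq_zero.1 (pow_eq_zero_iff (by decide) |>.1 h2)
  rw [h1, map_one] at hrz
  exact Subtype.ext hrz.symm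

/-- elements normalising the image (all characteristics) -/
theorem exists_ind' (p : ℕ) [Fact p.Prime] [CharP F p] {G : Type*} [Group G] {φ : _root_.Matrix.SpecialLinearGroup (Fin 2) F →* G}
    (hF : 3 < Nat.card F)
    (hker : ∀ g, φ g = 1 ↔ g ∈ Subgroup.center (_root_.Matrix.SpecialLinearGroup (Fin 2) F)) {g : G}
    (hg : ∀ s ∈ φ.range, g * s * g⁻¹ ∈ φ.range) (hg' : ∀ s ∈ φ.range, g⁻¹ * s * g ∈ φ.range) :
    ∃ (A : GL (Fin 2) F) (σ : F ≃+* F), Ind φ g (cj A * fld σ) := by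
  have hk : Subgroup.center (_root_.Matrix.SpecialLinearGroup (Fin 2) F) = φ.ker := by
    ext x
    rw [MonoidHom.mem_ker, hker]
  let e : ProjectiveSpecialLinearGroup (Fin 2) F ≃* φ.range :=
    (QuotientGroup.quotientMulEquivOfEq hk).trans (QuotientGroup.quotientKerEquivRange φ)
  have he : ∀ x : _root_.Matrix.SpecialLinearGroup (Fin 2) F, ((e (pr x) : φ.range) : G) = φ x := fun x => rfl
  let c : MulAut φ.range :=
    { toFun := fun s => ⟨g * s * g⁻¹, hg s s.2⟩
      invFun := fun s => ⟨g⁻¹ * s * g, hg' s s.2⟩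
      left_inv := fun s => Subtype.ext (by show g⁻¹ * (g * s * g⁻¹) * g = s; group)
      right_inv := fun s => Subtype.ext (by show g * (g⁻¹ * s * g) * g⁻¹ = s; group)
      map_mul' := fun s t => Subtype.ext (by
        show g * (s * t) * g⁻¹ = g * s * g⁻¹ * (g * t * g⁻¹)
        group) }
  obtain ⟨A, σ, hA⟩ := surj_two p ((MulAut.congr e).symm c)
  refine ⟨A, σ, fun x => ?_⟩
  have h4 : ((MulAut.congr e).symm c) (pr x) = pr ((cj A * fld σ : MulAut (_root_.Matrix.SpecialLinearGroup (Fin 2) F)) x) := by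
    rw [hA, lift_pr]
  have h5 : e (((MulAut.congr e).symm c) (pr x)) = c (e (pr x)) := by
    show e (e.symm (c (e (pr x)))) = _
    rw [MulEquiv.apply_symm_apply]
  rw [h4] at h5
  have h6 := congrArg Subtype.val h5
  rw [he] at h6
  rw [h6, ← he x]
  rfl

/-- **G1**, abstract form -/
theorem g1_abs (hF : Fintype.card F = 16) {H : Type*} [Group H] (E : Subgroup H) (hEn : E.Normal)
    (hEc : Subgroup.centralizer (E : Set H) ≤ E) (e : ↥E ≃* ProjectiveSpecialLinearGroup (Fin 2) F)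
    {y : H} (hy : y ∈ E) (h17 : orderOf y = 17) {g : H} (hg : Commute g y) : g ∈ Subgroup.zpowers y := by
  classical
  haveI := charP_two hF
  haveI : Fact (Nat.Prime 2) := ⟨Nat.prime_two⟩
  let φ : _root_.Matrix.SpecialLinearGroup (Fin 2) F →* H := (E.subtype.comp e.symm.toMonoidHom).comp
    (QuotientGroup.mk' (Subgroup.center (_root_.Matrix.SpecialLinearGroup (Fin 2) F)))
  have hφ : ∀ x, φ x = ((e.symm (QuotientGroup.mk' (Subgroup.center (_root_.Matrix.SpecialLinearGroup (Fin 2) F)) x) : ↥E) : H) :=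
    fun x => rfl
  have hker : ∀ g, φ g = 1 ↔ g ∈ Subgroup.center (_root_.Matrix.SpecialLinearGroup (Fin 2) F) := by
    intro g
    rw [hφ, OneMemClass.coe_eq_one, map_eq_one_iff _ e.symm.injective]
    exact QuotientGroup.eq_one_iff g
  have hinj : Function.Injective φ := by
    rw [injective_iff_map_eq_one]
    intro x hx
    exact sl_center16 hF ((hker x).1 hx)
  have hrange : φ.range = E := by
    ext x
    constructor
    · rintro ⟨y, rfl⟩
      exact (e.symm _).2
    · intro hx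
      obtain ⟨y, hy⟩ := QuotientGroup.mk'_surjective (Subgroup.center (_root_.Matrix.SpecialLinearGroup (Fin 2) F)) (e ⟨x, hx⟩)
      refine ⟨y, ?_⟩
      rw [hφ, hy, e.symm_apply_apply]
  have hnorm : ∀ g : H, ∀ s ∈ φ.range, g * s * g⁻¹ ∈ φ.range := by
    intro g s hs
    rw [hrange] at hs ⊢
    exact hEn.conj_mem s hs g
  have hnorm' : ∀ g : H, ∀ s ∈ φ.range, g⁻¹ * s * g ∈ φ.range := by
    intro g s hs
    have := hnorm g⁻¹ s hs
    rwa [inv_inv] at this
  have hcent : ∀ g : H, (∀ s ∈ φ.range, g * s = s * g) → g = 1 := by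
    intro g hg
    have h1 : g ∈ E := hEc (by
      rw [Subgroup.mem_centralizer_iff]
      intro s hs
      exact (hg s (by rw [hrange]; exact hs)).symm)
    have h2 : e ⟨g, h1⟩ ∈ Subgroup.center (Matrix.ProjectiveSpecialLinearGroup (Fin 2) F) := by
      rw [Subgroup.mem_center_iff]
      intro x
      obtain ⟨s, rfl⟩ := e.surjective x
      rw [← map_mul, ← map_mul]
      congr 1
      exact Subtype.ext (hg s (by rw [hrange]; exact s.2)).symm
    rw [psl_center16 hF, Subgroup.mem_bot, map_eq_one_iff _ e.injective] at h2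
    exact congrArg Subtype.val h2
  obtain ⟨Y, hY⟩ : y ∈ φ.range := by rw [hrange]; exact hy
  have hYo : orderOf Y = 17 := by rw [← orderOf_injective φ hinj, hY, h17]
  obtain ⟨A, σ, hA⟩ := exists_ind' 2 (φ := φ) (by rw [Nat.card_eq_fintype_card]; omega) hker (hnorm g) (hnorm' g)
  have hfix : (cj A * fld σ : MulAut (_root_.Matrix.SpecialLinearGroup (Fin 2) F)) Y = Y := by
    apply hinj
    rw [← hA, hY, hg.eq, mul_inv_cancel_right]
  -- the trace
  have htr : σ (Y.1 0 0 + Y.1 1 1) = Y.1 0 0 + Y.1 1 1 := by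
    have h1 : ((cj A * fld σ : MulAut (_root_.Matrix.SpecialLinearGroup (Fin 2) F)) Y).1.trace = Y.1.trace := by rw [hfix]
    have h2 : ((cj A * fld σ : MulAut (_root_.Matrix.SpecialLinearGroup (Fin 2) F)) Y).1 =
        (A : Matrix (Fin 2) (Fin 2) F) * (Y.1.map (σ : F →+* F)) * ((A⁻¹ : GL (Fin 2) F) : Matrix (Fin 2) (Fin 2) F) := rfl
    rw [h2, Matrix.trace_mul_cycle, ← Units.val_mul, inv_mul_cancel, Units.val_one, Matrix.one_mul,
      Matrix.trace_fin_two, Matrix.trace_fin_two] at h1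
    rw [map_add]
    exact h1
  have hσ := aut_trivial hF hYo σ htr
  subst hσ
  have hfld : (fld (RingEquiv.refl F) : MulAut (_root_.Matrix.SpecialLinearGroup (Fin 2) F)) = 1 := by
    apply MulEquiv.ext
    intro x
    apply Subtype.ext
    ext i j
    rfl
  rw [hfld, mul_one] at hA hfix
  -- inner
  obtain ⟨s, hs⟩ : ∃ s : F, (A : Matrix (Fin 2) (Fin 2) F).det = s ^ 2 := by
    refine ⟨(A : Matrix (Fin 2) (Fin 2) F).det ^ 8, ?_⟩
    rw [← pow_mul]
    have h1 := FiniteField.pow_card (A : Matrix (Fin 2) (Fin 2) F).det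
    rw [hF] at h1
    exact h1.symm
  obtain ⟨D, hD⟩ := cj_inner hs
  have hgD := hA.mem hcent hD
  rw [hD] at hfix
  obtain ⟨i, hi⟩ := cent17 hF hYo (D := D) (by rw [mul_inv_eq_iff_eq_mul] at hfix; exact hfix)
  rw [hgD, hi, map_pow, hY]
  exact Subgroup.npow_mem_zpowers y i

/-- **G1** -/
theorem G1 {G : Type*} [Group G] [Finite G] (hF : Fintype.card F = 16) (H : Subgroup G)
    (e : ↥(Cfsg.generalizedFittingSubgroup ↥H) ≃* Matrix.ProjectiveSpecialLinearGroup (Fin 2) F)
    (y : ↥H) (hy : y ∈ Cfsg.generalizedFittingSubgroup ↥H) (h17 : orderOf y = 17) (g : ↥H) (hg : Commute g y) :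
    g ∈ Subgroup.zpowers y :=
  g1_abs hF _ Cfsg.Agent.Lib.GenFitting.genFitting_normal Cfsg.Agent.Lib.GenFitting.centralizer_genFitting_le e hy h17 hg

end Grp

end Cfsg.Agent.H950.L16
end

-- part: H950/L16/GThree
section
/-!
# S5916: G3 (helper950): the subgroups of order 17 of `L₂(16)` are conjugate
-/

set_option autoImplicit false
set_option linter.style.haveILetI false

namespace Cfsg.Agent.H950.L16

open Matrix Subgroup

theorem sl17 {F : Type*} [Field F] [Fintype F] (hF : Fintype.card F = 16) {a b : _root_.Matrix.SpecialLinearGroup (Fin 2) F}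
    (ha : orderOf a = 17) (hb : orderOf b = 17) :
    ∃ (s : _root_.Matrix.SpecialLinearGroup (Fin 2) F) (i : ℤ), b = s * a ^ i * s⁻¹ := by
  classical
  haveI : Fact (Nat.Prime 17) := ⟨by norm_num⟩
  have hcard : Nat.card (_root_.Matrix.SpecialLinearGroup (Fin 2) F) = 17 * (16 * 15) := by
    rw [ClassicalGeometry.PSL2Basic.card_SL2, hF]; norm_num
  have hfac : (Nat.card (_root_.Matrix.SpecialLinearGroup (Fin 2) F)).factorization 17 = 1 := by
    rw [hcard, Nat.factorization_mul (by norm_num) (by norm_num), Nat.Prime.factorization (by norm_num)]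
    simp only [Finsupp.add_apply, Finsupp.single_eq_same]
    rw [Nat.factorization_eq_zero_of_not_dvd (by norm_num)]
  have key : ∀ {x : _root_.Matrix.SpecialLinearGroup (Fin 2) F}, orderOf x = 17 →
      Nat.card (zpowers x) = 17 ^ (Nat.card (_root_.Matrix.SpecialLinearGroup (Fin 2) F)).factorization 17 := by
    intro x hx
    rw [Nat.card_zpowers, hx, hfac]; norm_num
  set A : Sylow 17 (_root_.Matrix.SpecialLinearGroup (Fin 2) F) := Sylow.ofCard _ (key ha) with hA
  set B : Sylow 17 (_root_.Matrix.SpecialLinearGroup (Fin 2) F) := Sylow.ofCard _ (key hb) with hB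
  obtain ⟨g, hg⟩ := MulAction.exists_smul_eq (_root_.Matrix.SpecialLinearGroup (Fin 2) F) A B
  have h1 : b ∈ (B : Subgroup (_root_.Matrix.SpecialLinearGroup (Fin 2) F)) := by
    rw [hB]; exact mem_zpowers _
  rw [← hg] at h1
  have h2 : b ∈ ((A : Subgroup (_root_.Matrix.SpecialLinearGroup (Fin 2) F))).map (MulAut.conj g).toMonoidHom := h1
  have h3 : (A : Subgroup (_root_.Matrix.SpecialLinearGroup (Fin 2) F)) = zpowers a := by rw [hA]; rfl
  rw [h3] at h2
  obtain ⟨y, hy, hy2⟩ := mem_map.1 h2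
  obtain ⟨j, rfl⟩ := mem_zpowers_iff.1 hy
  exact ⟨g, j, hy2.symm⟩

theorem psl17 {F : Type*} [Field F] [Fintype F] (hF : Fintype.card F = 16) {a b : ProjectiveSpecialLinearGroup (Fin 2) F}
    (ha : orderOf a = 17) (hb : orderOf b = 17) :
    ∃ (s : ProjectiveSpecialLinearGroup (Fin 2) F) (i : ℤ), b = s * a ^ i * s⁻¹ := by
  classical
  have h2 : (2 : F) = 0 := by
    have : ((16 : ℕ) : F) = 0 := by
      rw [← hF]; exact Nat.cast_card_eq_zero F
    have h16 : (2 : F) ^ 4 = 0 := by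
      rw [← this]; norm_num
    exact pow_eq_zero_iff (by norm_num) |>.1 h16
  have hZ : center (_root_.Matrix.SpecialLinearGroup (Fin 2) F) = ⊥ :=
    Subgroup.eq_bot_of_card_eq _ (ClassicalGeometry.PSL2Basic.card_center_SL2_even h2)
  have hinj : Function.Injective (QuotientGroup.mk' (center (_root_.Matrix.SpecialLinearGroup (Fin 2) F))) := by
    rw [← MonoidHom.ker_eq_bot_iff, QuotientGroup.ker_mk', hZ]
  obtain ⟨a0, rfl⟩ := QuotientGroup.mk'_surjective _ a
  obtain ⟨b0, rfl⟩ := QuotientGroup.mk'_surjective _ b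
  rw [orderOf_injective _ hinj] at ha hb
  obtain ⟨s, i, h⟩ := sl17 hF ha hb
  exact ⟨QuotientGroup.mk' _ s, i, by rw [h]; simp only [_root_.QuotientGroup.mk'_apply, _root_.QuotientGroup.mk_mul, _root_.QuotientGroup.mk_zpow, _root_.QuotientGroup.mk_inv]⟩

/-- the subgroups of order 17 of `L₂(16)` are conjugate -/
theorem conj17 {X : Type*} [Group X] {N : Subgroup X} [hN : N.Normal] {F : Type*} [Field F] [Fintype F]
    (hF : Fintype.card F = 16) (e : ↥N ≃* ProjectiveSpecialLinearGroup (Fin 2) F) {y : X} (hy : y ∈ N)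
    (h17 : orderOf y = 17) (h : X) : ∃ s ∈ N, ∃ i : ℤ, h * y * h⁻¹ = s * y ^ i * s⁻¹ := by
  have h1 : orderOf (e ⟨y, hy⟩) = 17 := by
    rw [MulEquiv.orderOf_eq, ← h17]; exact Subgroup.orderOf_mk _ _
  have h2 : orderOf (e ⟨h * y * h⁻¹, hN.conj_mem _ hy h⟩) = 17 := by
    rw [MulEquiv.orderOf_eq, Subgroup.orderOf_mk, ← h17]
    exact (MulAut.conj h).orderOf_eq y
  obtain ⟨s, i, hs⟩ := psl17 hF h1 h2
  refine ⟨(e.symm s : N), (e.symm s).2, i, ?_⟩
  have h3 := congrArg e.symm hs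
  rw [e.symm_apply_apply, map_mul, map_mul, map_inv, map_zpow, e.symm_apply_apply] at h3
  have h4 := congrArg Subtype.val h3
  simpa only [_root_.Subgroup.coe_mul, _root_.SubgroupClass.coe_zpow, _root_.InvMemClass.coe_inv] using h4

/-- **G3** -/
theorem G3 {X : Type*} [Group X] {F : Type*} [Field F] [Fintype F] (hF : Fintype.card F = 16) (H : Subgroup X)
    (e : ↥(Cfsg.generalizedFittingSubgroup ↥H) ≃* Matrix.ProjectiveSpecialLinearGroup (Fin 2) F)
    (y : ↥H) (hy : y ∈ Cfsg.generalizedFittingSubgroup ↥H) (h17 : orderOf y = 17) (h : ↥H) :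
    ∃ s ∈ Cfsg.generalizedFittingSubgroup ↥H, ∃ i : ℤ, h * y * h⁻¹ = s * y ^ i * s⁻¹ :=
  haveI := SignalizersComponents.LayerBasic.generalizedFittingSubgroup_normal ↥H
  conj17 hF e hy h17 h

end Cfsg.Agent.H950.L16
end

-- part: H950/L16/Data
section
/-!
# S5916 (`L₂(16)` in `E₈(2)`), helper950: the group-theoretic frame

`Dat ι lam y ζ`, `exists_dat` (with the involution `t0` inverting `y`), `Sit H f y` and `exists_sit`.
-/

set_option autoImplicit false
set_option maxRecDepth 100000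

namespace Cfsg.Agent.H950.L16

open Matrix Cfsg
open Cfsg.Agent.H939.L64 (KK E2 mem_range two_KK add_KK pow_vec)

/-- the data: a generator `lam` of the split torus, `y` of order 17 with the eigenvalues `ζ, ζ⁻¹` -/
structure Dat {k F : Type*} [Field k] [Field F] [Fintype F] (ι : F →+* k) (lam : Fˣ)
    (y : _root_.Matrix.SpecialLinearGroup (Fin 2) F) (ζ : k) : Prop where
  card : Fintype.card F = 16
  gen : ∀ x, x ∈ Subgroup.zpowers lam
  prim : IsPrimitiveRoot ζ 17
  tr : ι (y.1 0 0 + y.1 1 1) = ζ + ζ⁻¹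

variable {F : Type} [Field F] [Fintype F]

theorem two_eq_zero (hF : Fintype.card F = 16) : (2 : F) = 0 := by
  have h1 : ((16 : ℕ) : F) = 0 := by rw [← hF]; exact Nat.cast_card_eq_zero F
  have h2 : (2 : F) ^ 4 = 0 := by rw [← h1]; norm_num
  exact pow_eq_zero_iff (by norm_num) |>.1 h2

theorem center_bot (hF : Fintype.card F = 16) : Subgroup.center (_root_.Matrix.SpecialLinearGroup (Fin 2) F) = ⊥ := by
  have h2 := two_eq_zero hF
  rw [Subgroup.eq_bot_iff_forall]
  intro A hA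
  exact sl_center16 hF hA

theorem exists_iota (hF : Fintype.card F = 16) : Nonempty (F →+* KK) := by
  classical
  have := charP_two hF
  let _ : Algebra (ZMod 2) F := ZMod.algebra F 2
  have : Algebra.IsAlgebraic (ZMod 2) F := Algebra.IsAlgebraic.of_finite (ZMod 2) F
  exact ⟨(IsAlgClosed.lift (R := ZMod 2) (M := KK) (S := F)).toRingHom⟩

theorem exists_equiv (hF : Fintype.card F = 16) {X : Type} [Group X] (e : X ≃* ProjectiveSpecialLinearGroup (Fin 2) F) :
    Nonempty (_root_.Matrix.SpecialLinearGroup (Fin 2) F ≃* X) := by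
  have h1 : Function.Bijective (QuotientGroup.mk' (Subgroup.center (_root_.Matrix.SpecialLinearGroup (Fin 2) F))) := by
    constructor
    · rw [← MonoidHom.ker_eq_bot_iff, QuotientGroup.ker_mk', center_bot hF]
    · exact QuotientGroup.mk'_surjective _
  exact ⟨(MulEquiv.ofBijective (QuotientGroup.mk' (Subgroup.center (_root_.Matrix.SpecialLinearGroup (Fin 2) F))) h1).trans e.symm⟩

/-- the homomorphism and the automorphisms -/
theorem exists_f (hF : Fintype.card F = 16) {G : Type} [Group G] (H : Subgroup G)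
    (e : ↥(generalizedFittingSubgroup ↥H) ≃* ProjectiveSpecialLinearGroup (Fin 2) F) :
    ∃ f : _root_.Matrix.SpecialLinearGroup (Fin 2) F →* ↥H, Function.Injective f ∧ f.range = generalizedFittingSubgroup ↥H ∧
      ∀ h : ↥H, ∃ τ : _root_.Matrix.SpecialLinearGroup (Fin 2) F ≃* _root_.Matrix.SpecialLinearGroup (Fin 2) F, ∀ s, f (τ s) = h * f s * h⁻¹ := by
  obtain ⟨E⟩ := exists_equiv hF e
  have hn : (generalizedFittingSubgroup ↥H).Normal := Lib.GenFitting.genFitting_normal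
  refine ⟨(generalizedFittingSubgroup ↥H).subtype.comp E.toMonoidHom,
    (Subgroup.subtype_injective _).comp E.injective, ?_, fun h => ?_⟩
  · rw [MonoidHom.range_comp, MonoidHom.range_eq_top.2 E.surjective, ← MonoidHom.range_eq_map, Subgroup.range_subtype]
  · refine ⟨(E.trans (MulAut.conjNormal h)).trans E.symm, fun s => ?_⟩
    show ((E (E.symm (MulAut.conjNormal h (E s))) : ↥(generalizedFittingSubgroup ↥H)) : ↥H) = _
    rw [MulEquiv.apply_symm_apply, MulAut.conjNormal_apply]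
    rfl

/-- the situation -/
structure Sit (H : Subgroup E2) (f : _root_.Matrix.SpecialLinearGroup (Fin 2) F →* E2) (y : _root_.Matrix.SpecialLinearGroup (Fin 2) F) : Prop where
  co : IsCoatom H
  inj : Function.Injective f
  le : ∀ s, f s ∈ H
  nor : ∀ h ∈ H, ∃ τ : _root_.Matrix.SpecialLinearGroup (Fin 2) F ≃* _root_.Matrix.SpecialLinearGroup (Fin 2) F, ∀ s, f (τ s) = h * f s * h⁻¹
  ord : orderOf y = 17
  cen : ∀ g ∈ H, Commute g (f y) → g ∈ Subgroup.zpowers (f y)
  con : ∀ h ∈ H, ∃ (s : _root_.Matrix.SpecialLinearGroup (Fin 2) F) (i : ℤ), h * f y * h⁻¹ = f s * f y ^ i * (f s)⁻¹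
  /-- only the identity of `H` centralises the socle -/
  tri : ∀ g ∈ H, (∀ s, Commute g (f s)) → g = 1

theorem exists_sit' (hF : Fintype.card F = 16) {G : Type} [Group G] [Finite G] (H : Subgroup G)
    (e : ↥(generalizedFittingSubgroup ↥H) ≃* ProjectiveSpecialLinearGroup (Fin 2) F)
    {y : _root_.Matrix.SpecialLinearGroup (Fin 2) F} (hord : orderOf y = 17) :
    ∃ f : _root_.Matrix.SpecialLinearGroup (Fin 2) F →* G, Function.Injective f ∧ (∀ s, f s ∈ H) ∧
      (∀ h ∈ H, ∃ τ : _root_.Matrix.SpecialLinearGroup (Fin 2) F ≃* _root_.Matrix.SpecialLinearGroup (Fin 2) F, ∀ s, f (τ s) = h * f s * h⁻¹) ∧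
      (∀ g ∈ H, Commute g (f y) → g ∈ Subgroup.zpowers (f y)) ∧
      (∀ h ∈ H, ∃ (s : _root_.Matrix.SpecialLinearGroup (Fin 2) F) (i : ℤ), h * f y * h⁻¹ = f s * f y ^ i * (f s)⁻¹) ∧
      ∀ g ∈ H, (∀ s, Commute g (f s)) → g = 1 := by
  obtain ⟨f, hf, hr, hn⟩ := exists_f hF H e
  have hmem : ∀ s, f s ∈ generalizedFittingSubgroup ↥H := fun s => by rw [← hr]; exact ⟨s, rfl⟩
  have hord' : orderOf (f y) = 17 := by rw [orderOf_injective f hf, hord]
  refine ⟨H.subtype.comp f, (Subgroup.subtype_injective H).comp hf, fun s => (f s).2, fun h hh => ?_,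
    fun g hg hc => ?_, fun h hh => ?_, fun g hg hc => ?_⟩
  · obtain ⟨τ, hτ⟩ := hn ⟨h, hh⟩
    exact ⟨τ, fun s => congrArg Subtype.val (hτ s)⟩
  · have hc' : Commute (⟨g, hg⟩ : ↥H) (f y) := Subtype.ext hc.eq
    have h1 := G1 hF H e (f y) (hmem y) hord' ⟨g, hg⟩ hc'
    obtain ⟨i, hi⟩ := Subgroup.mem_zpowers_iff.1 h1
    exact Subgroup.mem_zpowers_iff.2 ⟨i, congrArg Subtype.val hi⟩
  · obtain ⟨s, hs, i, hi⟩ := G3 hF H e (f y) (hmem y) hord' ⟨h, hh⟩
    rw [← hr] at hs
    obtain ⟨s', rfl⟩ := hs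
    exact ⟨s', i, congrArg Subtype.val hi⟩
  · have h1 : (⟨g, hg⟩ : ↥H) ∈ generalizedFittingSubgroup ↥H := by
      apply Cfsg.Agent.Lib.GenFitting.centralizer_genFitting_le
      rw [Subgroup.mem_centralizer_iff]
      intro s hs
      rw [SetLike.mem_coe, ← hr] at hs
      obtain ⟨s', rfl⟩ := hs
      exact Subtype.ext (hc s').eq.symm
    rw [← hr] at h1
    obtain ⟨z, hz⟩ := h1
    have h2 : z ∈ Subgroup.center (_root_.Matrix.SpecialLinearGroup (Fin 2) F) := by
      rw [Subgroup.mem_center_iff]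
      intro s
      apply hf
      rw [map_mul, map_mul, hz]
      exact Subtype.ext (hc s).eq.symm
    have h3 := sl_center16 hF h2
    rw [h3, map_one] at hz
    exact (congrArg Subtype.val hz).symm

theorem exists_sit (hF : Fintype.card F = 16) {H : Subgroup E2} (hco : IsCoatom H)
    (e : ↥(generalizedFittingSubgroup ↥H) ≃* ProjectiveSpecialLinearGroup (Fin 2) F)
    {y : _root_.Matrix.SpecialLinearGroup (Fin 2) F} (hord : orderOf y = 17) :
    ∃ f : _root_.Matrix.SpecialLinearGroup (Fin 2) F →* E2, Sit H f y := by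
  obtain ⟨f, h1, h2, h3, h4, h5, h6⟩ := exists_sit' hF H e hord
  exact ⟨f, hco, h1, h2, h3, hord, h4, h5, h6⟩

/-- the element of order 17 -/
def yy (hF : Fintype.card F = 16) (c : F) : _root_.Matrix.SpecialLinearGroup (Fin 2) F :=
  ⟨!![0, 1; 1, c], by
    rw [Matrix.det_fin_two_of, zero_mul, zero_sub, one_mul]
    have h := two_eq_zero hF
    have h1 : (1 : F) + 1 = 0 := by rw [one_add_one_eq_two, h]
    exact neg_eq_of_add_eq_zero_left h1⟩

theorem yy_vec (hF : Fintype.card F = 16) (ι : F →+* KK) {c : F} {ζ : KK} (h0 : ζ ≠ 0) (hc : ι c = ζ + ζ⁻¹) :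
    ((yy hF c : Matrix (Fin 2) (Fin 2) F).map ι) *ᵥ ![1, ζ] = ζ • ![1, ζ] := by
  ext i
  fin_cases i
  · simp only [yy, Matrix.mulVec, dotProduct, Fin.sum_univ_two, _root_.Fin.zero_eta, _root_.Fin.isValue, _root_.Matrix.map_apply, _root_.Matrix.of_apply, _root_.Matrix.cons_val', _root_.Matrix.cons_val_fin_one, _root_.Matrix.cons_val_zero, _root_.map_zero, _root_.mul_one, _root_.Matrix.cons_val_one, _root_.map_one, _root_.one_mul, _root_.zero_add, _root_.Nat.succ_eq_add_one, _root_.Nat.reduceAdd, _root_.Pi.smul_apply, _root_.smul_eq_mul]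
  · simp only [yy, Matrix.mulVec, dotProduct, Fin.sum_univ_two, Matrix.map_apply]
    simp [hc]
    have h1 : (1 : KK) + (ζ + ζ⁻¹) * ζ = (1 + 1) + ζ * ζ := by
      rw [add_mul, inv_mul_cancel₀ h0]; ring
    rw [h1, add_KK, zero_add]

theorem orderOf_yy (hF : Fintype.card F = 16) (ι : F →+* KK) {c : F} {ζ : KK} (hζ : IsPrimitiveRoot ζ 17)
    (hc : ι c = ζ + ζ⁻¹) : orderOf (yy hF c) = 17 := by
  have h0 : ζ ≠ 0 := hζ.ne_zero (by norm_num)
  have e1 := yy_vec hF ι h0 hc
  have e2 := yy_vec hF ι (inv_ne_zero h0) (show ι c = ζ⁻¹ + ζ⁻¹⁻¹ by rw [hc, inv_inv, add_comm])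
  have hmap : ∀ n : ℕ, (((yy hF c ^ n : _root_.Matrix.SpecialLinearGroup (Fin 2) F) : Matrix (Fin 2) (Fin 2) F).map ι) = ((yy hF c : Matrix (Fin 2) (Fin 2) F).map ι) ^ n := by
    intro n
    exact map_pow ι.mapMatrix (yy hF c : Matrix (Fin 2) (Fin 2) F) n
  have hne : ζ ≠ ζ⁻¹ := by
    intro h
    have h1 : ζ ^ 2 = 1 := by
      rw [pow_two]
      nth_rw 2 [h]
      exact mul_inv_cancel₀ h0
    have := (hζ.pow_eq_one_iff_dvd 2).1 h1
    omega
  have h17 : yy hF c ^ 17 = 1 := by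
    have a1 := pow_vec e1 17
    have a2 := pow_vec e2 17
    rw [hζ.pow_eq_one, one_smul] at a1
    rw [inv_pow, hζ.pow_eq_one, inv_one, one_smul] at a2
    have hN : ((yy hF c : Matrix (Fin 2) (Fin 2) F).map ι) ^ 17 = 1 := by
      ext i j
      have b1 := congrFun a1 i
      have b2 := congrFun a2 i
      simp only [Matrix.mulVec, dotProduct, Fin.sum_univ_two, Matrix.cons_val_zero, Matrix.cons_val_one, mul_one] at b1 b2
      have h7 : (((yy hF c : Matrix (Fin 2) (Fin 2) F).map ι) ^ 17) i 1 * (ζ - ζ⁻¹) = (![1, ζ] : Fin 2 → KK) i - (![1, ζ⁻¹] : Fin 2 → KK) i := by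
        rw [← b1, ← b2]; ring
      have hd : ζ - ζ⁻¹ ≠ 0 := sub_ne_zero.2 hne
      fin_cases i
      · have h8 : (((yy hF c : Matrix (Fin 2) (Fin 2) F).map ι) ^ 17) 0 1 = 0 := by
          have : (((yy hF c : Matrix (Fin 2) (Fin 2) F).map ι) ^ 17) 0 1 * (ζ - ζ⁻¹) = 0 := by rw [← sub_self (1 : KK)]; exact h7
          exact (mul_eq_zero.1 this).resolve_right hd
        fin_cases j
        · have : (((yy hF c : Matrix (Fin 2) (Fin 2) F).map ι) ^ 17) 0 0 + (((yy hF c : Matrix (Fin 2) (Fin 2) F).map ι) ^ 17) 0 1 * ζ = 1 := b1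
          rw [h8, zero_mul, add_zero] at this
          exact this
        · exact h8
      · have h8 : (((yy hF c : Matrix (Fin 2) (Fin 2) F).map ι) ^ 17) 1 1 = 1 := by
          have : (((yy hF c : Matrix (Fin 2) (Fin 2) F).map ι) ^ 17) 1 1 * (ζ - ζ⁻¹) = 1 * (ζ - ζ⁻¹) := by rw [one_mul]; exact h7
          exact mul_right_cancel₀ hd this
        fin_cases j
        · have : (((yy hF c : Matrix (Fin 2) (Fin 2) F).map ι) ^ 17) 1 0 + (((yy hF c : Matrix (Fin 2) (Fin 2) F).map ι) ^ 17) 1 1 * ζ = ζ := b1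
          rw [h8, one_mul] at this
          exact add_eq_right.1 this
        · exact h8
    rw [← hmap] at hN
    apply Subtype.ext
    apply Matrix.map_injective ι.injective
    refine hN.trans ?_
    exact (Matrix.map_one ι (map_zero ι) (map_one ι)).symm
  refine Nat.dvd_antisymm (orderOf_dvd_of_pow_eq_one h17) ?_
  have h1 := pow_vec e1 (orderOf (yy hF c))
  rw [← hmap, pow_orderOf_eq_one] at h1
  have h2 := congrFun h1 0
  simp [Matrix.mulVec, dotProduct, Fin.sum_univ_two] at h2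
  exact (hζ.pow_eq_one_iff_dvd _).1 h2.symm

/-- the involution inverting `yy` -/
def tt (hF : Fintype.card F = 16) : _root_.Matrix.SpecialLinearGroup (Fin 2) F := yy hF 0

theorem tt_mul (hF : Fintype.card F = 16) : tt hF * tt hF = 1 := by
  apply Subtype.ext
  show (!![0, 1; 1, 0] : Matrix (Fin 2) (Fin 2) F) * !![0, 1; 1, 0] = 1
  ext i j
  (revert i j; simp only [Matrix.mul_apply, Fin.sum_univ_two, _root_.Fin.forall_fin_succ, _root_.Matrix.of_apply, _root_.Matrix.cons_val', _root_.Matrix.cons_val_fin_one, Fin.isValue, _root_.Matrix.cons_val_zero, _root_.Matrix.cons_val_one, _root_.MulZeroClass.mul_zero, _root_.mul_one, _root_.zero_add, _root_.Matrix.cons_val_succ, _root_.add_zero, _root_.IsEmpty.forall_iff, _root_.and_true, _root_.Matrix.one_apply_eq, Nat.reduceAdd, _root_.Fin.succ_zero_eq_one, _root_.ne_eq, _root_.zero_ne_one, _root_.not_false_eq_true, _root_.Matrix.one_apply_ne, _root_.and_self, _root_.Fin.succ_ne_zero, _root_.true_and])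

theorem tt_yy (hF : Fintype.card F = 16) (c : F) : tt hF * yy hF c * tt hF = (yy hF c)⁻¹ := by
  have h2 := two_eq_zero hF
  have hn : ∀ x : F, -x = x := fun x => by
    have : x + x = 0 := by rw [← two_mul, h2, zero_mul]
    exact neg_eq_of_add_eq_zero_left this
  rw [eq_inv_iff_mul_eq_one]
  apply Subtype.ext
  show (!![0, 1; 1, 0] : Matrix (Fin 2) (Fin 2) F) * !![0, 1; 1, c] * !![0, 1; 1, 0] * !![0, 1; 1, c] = 1
  ext i j
  (revert i j; simp only [Matrix.mul_apply, Fin.sum_univ_two, ← two_mul, h2, _root_.Fin.forall_fin_succ, _root_.Matrix.cons_mul, _root_.Nat.succ_eq_add_one, Nat.reduceAdd, _root_.Matrix.vecMul_cons, _root_.Matrix.head_cons, _root_.zero_smul, _root_.Matrix.tail_cons, _root_.one_smul, _root_.Matrix.empty_vecMul, _root_.add_zero, _root_.zero_add, _root_.MulZeroClass.mul_zero, _root_.Matrix.empty_mul, _root_.Equiv.symm_apply_apply, _root_.Matrix.smul_cons, _root_.smul_eq_mul, _root_.mul_one, _root_.Matrix.smul_empty, _root_.Matrix.add_cons,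 _root_.Matrix.of_apply, _root_.Matrix.cons_val', _root_.Matrix.cons_val_fin_one, Fin.isValue, _root_.Matrix.cons_val_zero, _root_.Matrix.cons_val_one, _root_.Matrix.cons_val_succ, _root_.IsEmpty.forall_iff, _root_.and_true, _root_.Matrix.one_apply_eq, _root_.one_mul, _root_.MulZeroClass.zero_mul, _root_.Fin.succ_zero_eq_one, _root_.ne_eq, _root_.zero_ne_one, _root_.not_false_eq_true, _root_.Matrix.one_apply_ne, _root_.and_self, _root_.Fin.succ_ne_zero, _root_.true_and])

/-- the statement for `F : Type` implies the statement for all universes -/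
theorem main_of (h0 : ∀ {F : Type} [Field F] [Fintype F], Fintype.card F = 16 → ∀ H : Subgroup E2,
    (↥(generalizedFittingSubgroup ↥H) ≃* ProjectiveSpecialLinearGroup (Fin 2) F) → ¬ IsCoatom H)
    {F : Type*} [Field F] [Fintype F] (hF : Fintype.card F = 16) (H : Subgroup E2)
    (hH : Nonempty (↥(generalizedFittingSubgroup ↥H) ≃* ProjectiveSpecialLinearGroup (Fin 2) F)) : ¬ IsCoatom H := by
  classical
  obtain ⟨e⟩ := hH
  have : Fintype (GaloisField 2 4) := Fintype.ofFinite _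
  have h16 : Fintype.card (GaloisField 2 4) = 16 := by
    rw [← Nat.card_eq_fintype_card, GaloisField.card 2 4 (by norm_num)]
    norm_num
  exact h0 h16 H (e.trans (Cfsg.Agent.LieClassical.FieldTransfer.pslCongr
    (FiniteField.ringEquivOfCardEq (hF.trans h16.symm))))

end Cfsg.Agent.H950.L16
end

-- part: H950/L16/Stab
section
/-!
# S5916 (`L₂(16)` in `E₈(2)`), helper950: stabilisers of `H`-stable subspaces
-/

set_option autoImplicit false
set_option maxRecDepth 100000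
set_option linter.unusedSectionVars false

namespace Cfsg.Agent.H950.L16

open Matrix Cfsg Cfsg.Lie
open Cfsg.Agent.H939.L64 (KK E2 LK L2 em aK rE rE_apply rE_mul rE_one rE_inv_self rE_self_inv rEq rEq_apply fixS brK
  rE_brK em_injective rE_inj finrank_LK frE frE_apply frE_smul frE_rE)
open Cfsg.Agent.H942.E8Tab

variable {F : Type} [Field F] [Fintype F] {H : Subgroup E2}
  {f : _root_.Matrix.SpecialLinearGroup (Fin 2) F →* E2} {y : _root_.Matrix.SpecialLinearGroup (Fin 2) F}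

theorem mem_fix {v : LK} : v ∈ fixS (rE.comp f) ↔ ∀ s, rE (f s) v = v := Iff.rfl

theorem fix_stable (S : Sit H f y) {h : E2} (hh : h ∈ H) {v : LK} (hv : v ∈ fixS (rE.comp f)) :
    rE h v ∈ fixS (rE.comp f) := by
  intro s
  show rE (f s) (rE h v) = rE h v
  obtain ⟨τ, hτ⟩ := S.nor h hh
  have h1 : f s * h = h * f (τ.symm s) := by
    have := hτ (τ.symm s)
    rw [MulEquiv.apply_symm_apply] at this
    rw [this, inv_mul_cancel_right]
  rw [← rE_mul, h1, rE_mul, mem_fix.1 hv]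

/-- stabilisers -/
theorem mem_of_stab (S : Sit H f y) {A : Submodule KK LK} (h0 : A ≠ ⊥) (h1 : A ≠ ⊤)
    (hH : ∀ h ∈ H, ∀ v ∈ A, rE h v ∈ A) {g : E2} (hg : ∀ v ∈ A, rE g v ∈ A) : g ∈ H := by
  have key : ∀ x : E2, (∀ v ∈ A, rE x v ∈ A) → ∀ v ∈ A, rE x⁻¹ v ∈ A := by
    intro x hx v hv
    have h2 : A.map (rEq x).toLinearMap = A := by
      apply Submodule.eq_of_le_of_finrank_eq
      · rintro _ ⟨w, hw, rfl⟩
        exact hx w hw
      · exact LinearEquiv.finrank_map_eq (rEq x) A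
    rw [← h2] at hv
    obtain ⟨w, hw, rfl⟩ := hv
    show rE x⁻¹ (rE x w) ∈ A
    rw [rE_inv_self]
    exact hw
  let K : Subgroup E2 :=
    { carrier := {x | ∀ v ∈ A, rE x v ∈ A}
      mul_mem' := fun {a b} ha hb v hv => by rw [rE_mul]; exact ha _ (hb v hv)
      one_mem' := fun v hv => by rw [rE_one]; exact hv
      inv_mem' := fun {a} ha => key a ha }
  by_contra hgH
  have h2 : H < K := by
    refine lt_of_le_of_ne hH fun h => hgH ?_
    rw [h]
    exact hg
  have h3 := S.co.2 K h2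
  rcases Cfsg.Agent.H955.L64.IRR A (fun x v hv => (by rw [h3]; trivial : x ∈ K) v hv) with h4 | h4
  · exact h0 h4
  · exact h1 h4

/-- pointwise stabilisers -/
theorem mem_of_fix (S : Sit H f y) {W : Submodule KK LK} (h0 : W ≠ ⊥) (hf : ∀ s, ∀ w ∈ W, rE (f s) w = w)
    (hst : ∀ h ∈ H, ∀ w ∈ W, rE h w ∈ W) {g : E2} (hg : ∀ w ∈ W, rE g w = w) : g ∈ H := by
  let K : Subgroup E2 :=
    { carrier := {x | ∀ w ∈ W, rE x w = w}
      mul_mem' := fun {a b} ha hb v hv => by rw [rE_mul, hb v hv, ha v hv]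
      one_mem' := fun v hv => rE_one v
      inv_mem' := fun {a} ha v hv => by
        have := ha v hv
        conv_lhs => rw [← this]
        exact rE_inv_self a v }
  have hmem : ∀ x, x ∈ K ↔ ∀ w ∈ W, rE x w = w := fun x => Iff.rfl
  have hK : K ≤ H := by
    apply Cfsg.Agent.H955.L64.G2 S.co
    · intro h hh
      have key : ∀ h ∈ H, ∀ k ∈ K, h * k * h⁻¹ ∈ K := by
        intro h hh k hk w hw
        rw [rE_mul, rE_mul, hk _ (hst _ (H.inv_mem hh) w hw), rE_self_inv]
      rw [Subgroup.mem_normalizer_iff]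
      intro k
      constructor
      · exact key h hh k
      · intro hk
        have := key _ (H.inv_mem hh) _ hk
        have e : h⁻¹ * (h * k * h⁻¹) * h⁻¹⁻¹ = k := by group
        rwa [e] at this
    · intro hb
      have h1 : f y ∈ K := fun w hw => hf y w hw
      rw [hb, Subgroup.mem_bot, ← map_one f] at h1
      have h2 := S.inj h1
      have h3 := S.ord
      rw [h2, orderOf_one] at h3
      omega
    · obtain ⟨w, hw, hw0⟩ := (Submodule.ne_bot_iff W).1 h0
      exact ⟨w, hw0, fun k hk => hk w hw⟩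
  exact hK hg

/-- the fixed space of the socle is proper -/
theorem fix_ne_top (S : Sit H f y) : fixS (rE.comp f) ≠ ⊤ := by
  intro h
  have h1 : f y = 1 := rE_inj fun v => by
    have h3 : v ∈ fixS (rE.comp f) := by rw [h]; trivial
    exact h3 y
  rw [← map_one f] at h1
  have h2 := S.inj h1
  have h3 := S.ord
  rw [h2, orderOf_one] at h3
  omega

/-- an element commuting with the socle is trivial as soon as it stabilises a proper non-zero `H`-stable subspace -/
theorem eq_one_of_comm (S : Sit H f y) {A : Submodule KK LK} (h0 : A ≠ ⊥) (h1 : A ≠ ⊤)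
    (hH : ∀ h ∈ H, ∀ v ∈ A, rE h v ∈ A) {g : E2} (hg : ∀ v ∈ A, rE g v ∈ A) (hc : ∀ s, Commute g (f s)) : g = 1 :=
  S.tri g (mem_of_stab S h0 h1 hH hg) hc

end Cfsg.Agent.H950.L16
end

private theorem dce_c395114f107f : _root_.True := by
  try have : _root_.True := by simp only [_root_.Cfsg.Agent.H950.L16.yy.eq_1]
  try have : _root_.True := by simp only [_root_.Cfsg.Agent.H950.L16.yy.congr_simp]
  exact _root_.True.intro
end

-- part: H939/L16/Def
section
prune_inst 0x20000000000000000000000000000000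
set_option linter.all false
open scoped Cfsg.Agent.FastGrp

/-!
# S5916 (`L₂(16)` in `E₈(2)`): interface

Frame coordinates `u = z⁻¹ v` of the Lie algebra `LK`; families of vectors in place of simple modules.

Roots: index `s < 240` of `chevE8`, `239 - s` is the negative. `β = (a₇, a₅, a₂, a₃) = (121, 126, 141, 135)`,
`γ = (152, 159, 226, 239)`; `w : β₀ → β₁ → β₂ → β₃ → β₀`, `γ₀ → γ₁ → γ₂ → γ₃ → -γ₀`.
-/

set_option autoImplicit false
set_option maxRecDepth 100000

namespace Cfsg.Agent.H939.L16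

open Matrix Cfsg Cfsg.Lie
open Cfsg.Agent.H939.L64 (KK E2 LK em aK rE fr brK)
open Cfsg.Agent.H413.L16 (er hv hr tg)

/-! ### the frame of an element of order 17, explicit operators -/

/-- the vector (simple roots `a₁, …, a₈`) of the class of elements of order 17 with `dim C = 16` -/
def V16 : Fin 8 → ZMod 17 := ![1, 0, 0, 1, 0, 1, 0, 2]

/-- the permutation `w` of the indices of the roots -/
def WT : List ℕ := [152, 9, 10, 26, 36, 46, 47, 56, 57, 66, 71, 110, 114, 0, 48, 58, 67, 72, 111, 115, 1, 68, 73, 112,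
  116, 2, 76, 130, 131, 5, 142, 143, 7, 174, 16, 17, 77, 136, 137, 6, 147, 148, 8, 184, 21, 22, 153, 156, 11, 194, 27, 30,
  204, 37, 40, 78, 154, 157, 12, 195, 28, 31, 205, 38, 41, 79, 214, 49, 52, 88, 99, 219, 59, 62, 93, 105, 117, 119, 155,
  158, 13, 196, 29, 32, 206, 39, 42, 80, 215, 50, 53, 89, 100, 216, 51, 54, 90, 101, 104, 220, 60, 63, 94, 106, 118, 221,
  61, 64, 95, 107, 224, 69, 70, 98, 225, 74, 75, 235, 113, 236, 3, 126, 4, 164, 165, 14, 141, 169, 170, 15, 132, 144, 175,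
  178, 18, 121, 133, 145, 176, 179, 19, 135, 138, 149, 185, 188, 23, 139, 150, 186, 189, 24, 159, 197, 200, 33, 207, 210,
  43, 226, 81, 84, 120, 122, 134, 146, 177, 180, 20, 140, 151, 187, 190, 25, 160, 198, 201, 34, 208, 211, 44, 227, 82, 85,
  161, 199, 202, 35, 209, 212, 45, 228, 83, 86, 217, 218, 55, 231, 91, 92, 233, 102, 103, 162, 222, 223, 65, 232, 96, 97,
  234, 108, 109, 163, 237, 123, 127, 166, 171, 238, 124, 128, 167, 172, 181, 191, 239, 125, 129, 168, 173, 182, 183, 192,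
  193, 203, 213, 229, 230, 87]

/-- the permutation `w` -/
def wi (s : ℕ) : ℕ := WT.getD s 240

/-- `x_r(c)` in characteristic two : `v + c [e_r, v] + c² v_{-r} e_r` (an operator on `LK`, `r < 240`) -/
noncomputable def xl (r : Fin chevE8.nroots) (c : KK) (v : LK) : LK :=
  v + c • brK (er r) v + (c ^ 2 * v (Sum.inr (Fin.rev r))) • er r

/-- `i = ∏ x_{β_j}(1)` -/
noncomputable def iz (v : LK) : LK :=
  xl ⟨121, by decide +kernel⟩ 1 (xl ⟨126, by decide +kernel⟩ 1 (xl ⟨141, by decide +kernel⟩ 1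
    (xl ⟨135, by decide +kernel⟩ 1 v)))

/-- **the operators of the frame**: `Fp` the Frobenius map, `ta` the action of `τ = m⁴` -/
structure Ops (Fp : LK → LK) (ta : LK →ₗ[KK] LK) : Prop where
  add : ∀ u v, Fp (u + v) = Fp u + Fp v
  smul : ∀ (c : KK) u, Fp (c • u) = c ^ 2 • Fp u
  br : ∀ u v, Fp (brK u v) = brK (Fp u) (Fp v)
  er : ∀ s < 240, Fp (er s) = er (wi s)
  inj : Function.Injective Fp
  tbr : ∀ u v, ta (brK u v) = brK (ta u) (ta v)
  ter : ∀ s < 240, ta (Cfsg.Agent.H413.L16.er s) = Cfsg.Agent.H413.L16.er (wi (wi (wi (wi s))))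
  comm : ∀ u, Fp (ta u) = ta (Fp u)
  tt : ∀ u, ta (ta u) = u

/-- the weight of a root : `V16` modulo 17 -/
def wt16 (s : ℕ) : ZMod 17 := ∑ i : Fin 8, V16 i * (Cfsg.Agent.ChevalleyStructure.RootVec.rt chevE8 s i : ℤ)

/-- the weight spaces, `a ≠ 0` -/
noncomputable def Wt (a : ZMod 17) : Submodule KK LK :=
  Submodule.span KK {v | ∃ s < 240, wt16 s = a ∧ v = er s}

/-! ### the solutions of `[u, t u] = 0` -/

/-! ### the frame in the group -/

/-- `SL₂(F)` in frame coordinates -/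
noncomputable def rz {F : Type*} [Field F] (z : ↥(chevE8.group KK)) (f : SpecialLinearGroup (Fin 2) F →* E2) :
    Representation KK (SpecialLinearGroup (Fin 2) F) LK where
  toFun s := Matrix.mulVecLin (((z⁻¹ * em (f s) * z : ↥(chevE8.group KK)) : GL chevE8.Idx KK) :
    Matrix chevE8.Idx chevE8.Idx KK)
  map_one' := by
    rw [map_one, map_one, mul_one, inv_mul_cancel]
    exact Matrix.mulVecLin_one
  map_mul' a b := by
    have h : z⁻¹ * em (f (a * b)) * z = (z⁻¹ * em (f a) * z) * (z⁻¹ * em (f b) * z) := by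
      rw [map_mul, map_mul]; group
    rw [h, Subgroup.coe_mul, Units.val_mul]
    exact Matrix.mulVecLin_mul _ _

theorem rz_apply {F : Type*} [Field F] (z : ↥(chevE8.group KK)) (f : SpecialLinearGroup (Fin 2) F →* E2)
    (s : SpecialLinearGroup (Fin 2) F) (v : LK) : rz z f s v = aK (z⁻¹ * em (f s) * z) v := rfl

/-- **the situation of the Lie algebra**: `E₈(2) ≥ H ≥ S = f(SL₂(16))`, `y` of order 17 with the frame `z`, `ζ'` the
eigenvalue in the frame, `Fp`, `ta` the explicit operators -/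
structure Lsit {F : Type} [Field F] [Fintype F] (H : Subgroup E2) (f : SpecialLinearGroup (Fin 2) F →* E2)
    (y t0 : SpecialLinearGroup (Fin 2) F) (z : ↥(chevE8.group KK)) (ζ' : KK) (Fp : LK → LK) (ta : LK →ₗ[KK] LK) :
    Prop where
  ops : Ops Fp ta
  prim : IsPrimitiveRoot ζ' 17
  /-- `y` is diagonal -/
  yer : ∀ s < 240, rz z f y (er s) = ζ' ^ (wt16 s).val • er s
  yhv : ∀ c, rz z f y (hv c) = hv c
  /-- `Fp` is the Frobenius map in frame coordinates -/
  frob : ∀ v, aK z⁻¹ (fr v) = Fp (aK z⁻¹ v)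

end Cfsg.Agent.H939.L16
end

-- part: H955/L16/Stmt
section
set_option linter.all false

/-!
# S5916 (helper955): the equations of the families and the generic vectors

`vR`, `vN` : the solutions of `[v, t v] = 0` in the weight spaces 1 and 3 (with the product relations `RelR`, `RelN`).
`SS1, INV1` (type `(0)`), `SS2, INV2, SIG` (type `(0,1)`), `SS2, RAT` (type `(0,2)`), `SS3, SA, SB` (type `(0,1,2)`).
`true` is the index `+`.
-/

set_option autoImplicit false

namespace Cfsg.Agent.H955.L16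

open Cfsg.Agent.H939.L64 (KK LK brK)
open Cfsg.Agent.H413.L16 (er)
open Cfsg.Agent.H939.L16

/-- generic solution of weight 1 -/
noncomputable def vR (k o1 o3 r1 r2 r3 r0 : KK) : LK :=
  k • er 128 + o1 • (er 127 + er 131) + o3 • (er 136 + er 163) + r1 • er 147 + r2 • er 137 + r3 • er 143 + r0 • er 148

/-- the relations of `vR` -/
def RelR (o1 o3 r1 r3 : KK) : Prop := o1 * r1 = 0 ∧ o1 * o3 = 0 ∧ o3 * r3 = 0

/-- generic solution of weight 3 -/
noncomputable def vN (K1 K2 A A2 B : KK) : LK :=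
  K1 • er 157 + K2 • er 172 + A • (er 2 + er 154) + A2 • (er 129 + er 156) + B • (er 2 + er 167)

/-- `t0` -/
noncomputable def T (ta : LK →ₗ[KK] LK) (v : LK) : LK := iz (ta v)

/-! ### families with one index -/

def SS1 (s : Bool → LK) : Prop := ∀ a b, brK (s a) (s b) = 0

/-- `z a b = [s a, F² s b]`, `[z ++, z --] + [z +-, z -+] = 0` -/
def INV1 (Fp : LK → LK) (s : Bool → LK) : Prop :=
  brK (brK (s true) (Fp (Fp (s true)))) (brK (s false) (Fp (Fp (s false)))) +
    brK (brK (s true) (Fp (Fp (s false)))) (brK (s false) (Fp (Fp (s true)))) = 0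

/-! ### families with two indices -/

def SS2 (s : Bool → Bool → LK) : Prop := ∀ a b c d, brK (s a b) (s c d) = 0

/-- `z a b c d = [s a b, F² s c d]`, the quadratic invariant is zero -/
def INV2 (Fp : LK → LK) (s : Bool → Bool → LK) : Prop :=
  ∑ b : Bool, ∑ c : Bool, ∑ d : Bool,
    brK (brK (s true b) (Fp (Fp (s c d)))) (brK (s false (!b)) (Fp (Fp (s (!c) (!d))))) = 0

noncomputable def sg (Fp : LK → LK) (s : Bool → Bool → LK) (a d : Bool) : LK := ∑ b : Bool, brK (s a b) (Fp (s (!b) d))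

/-- the quadratic invariant of `sg` -/
def SIG (Fp : LK → LK) (s : Bool → Bool → LK) : Prop :=
  brK (sg Fp s true true) (sg Fp s false false) + brK (sg Fp s true false) (sg Fp s false true) = 0

/-- type `(0,2)` : `F²`-rational -/
def RAT (Fp : LK → LK) (s : Bool → Bool → LK) : Prop := ∀ a b, Fp (Fp (s a b)) = s (!b) a

/-! ### families with three indices -/

def SS3 (s : Bool → Bool → Bool → LK) : Prop := ∀ a b c a' b' c', brK (s a b c) (s a' b' c') = 0

def SA (Fp : LK → LK) (s : Bool → Bool → Bool → LK) : Prop :=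
  ∀ a d, ∑ b : Bool, ∑ c : Bool, brK (s a b c) (Fp (s (!b) (!c) d)) = 0

def SB (Fp : LK → LK) (s : Bool → Bool → Bool → LK) : Prop :=
  ∀ b d, ∑ a : Bool, ∑ c : Bool, brK (s a b c) (Fp (Fp (s (!c) d a))) = 0

/-! ### the eliminations, as propositions (to be proved by the typists) -/

section

variable (Fp : LK → LK) (ta : LK →ₗ[KK] LK)

/-- type R, `(0)` -/
def ElimR0 : Prop := ∀ (s : Bool → LK) (k o1 o3 r1 r2 r3 r0 : KK), RelR o1 o3 r1 r3 →
  s true = vR k o1 o3 r1 r2 r3 r0 → s false = T ta (s true) → SS1 s → INV1 Fp s → o1 = 0 ∧ o3 = 0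

/-- type N, `(0,2)` -/
def ElimN02 : Prop := ∀ (k o1 o3 r1 r2 r3 r0 : KK), RelR o1 o3 r1 r3 →
  brK (vR k o1 o3 r1 r2 r3 r0) (Fp (Fp (vR k o1 o3 r1 r2 r3 r0))) = 0 → o1 = 0 ∧ o3 = 0

/-- type R, `(0,1)` : natural eigenvalue `ζ'` -/
def ElimR01 : Prop := ∀ (s : Bool → Bool → LK) (k o1 o3 r1 r2 r3 r0 K1 K2 A A2 B : KK), RelR o1 o3 r1 r3 → A * A2 = 0 →
  s false true = vR k o1 o3 r1 r2 r3 r0 → s true true = vN K1 K2 A A2 B → (∀ a b, s (!a) (!b) = T ta (s a b)) →
  SS2 s → INV2 Fp s → SIG Fp s → o1 = 0 ∧ o3 = 0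

/-- type N, `(0,1)` : natural eigenvalue `ζ' ^ 6` -/
def ElimN01 : Prop := ∀ (s : Bool → Bool → LK) (k o1 o3 r1 r2 r3 r0 K1 K2 A A2 B : KK), RelR o1 o3 r1 r3 → A * A2 = 0 →
  s true true = vR k o1 o3 r1 r2 r3 r0 → s false true = Fp (vN K1 K2 A A2 B) → (∀ a b, s (!a) (!b) = T ta (s a b)) →
  SS2 s → INV2 Fp s → SIG Fp s → o1 = 0 ∧ o3 = 0

/-- type R, `(0,1,2)` : natural eigenvalue `ζ'`; the weights are 7, 3, 5, 1 -/
def ElimR012 : Prop := ∀ (s : Bool → Bool → Bool → LK) (k o1 o3 r1 r2 r3 r0 : KK) (K1 K2 A A2 B : ℕ → KK),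
  RelR o1 o3 r1 r3 → (∀ i, A i * A2 i = 0) →
  s true true true = Fp (Fp (Fp (vN (K1 0) (K2 0) (A 0) (A2 0) (B 0)))) →
  s true false true = vN (K1 1) (K2 1) (A 1) (A2 1) (B 1) →
  s false true true = T ta (Fp (Fp (vN (K1 2) (K2 2) (A 2) (A2 2) (B 2)))) →
  s false false true = vR k o1 o3 r1 r2 r3 r0 → (∀ a b c, s a b c ≠ 0) → (∀ a b c, s (!a) (!b) (!c) = T ta (s a b c)) →
  SS3 s → SA Fp s → SB Fp s → o1 = 0 ∧ o3 = 0

/-- type N, `(0,1,2)` : natural eigenvalue `ζ' ^ 7`; the weights are 15, 4, 1, 7 -/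
def ElimN012 : Prop := ∀ (s : Bool → Bool → Bool → LK) (k o1 o3 r1 r2 r3 r0 : ℕ → KK) (K1 K2 A A2 B : KK),
  (∀ i, RelR (o1 i) (o3 i) (r1 i) (r3 i)) → A * A2 = 0 →
  s true true true = T ta (Fp (vR (k 0) (o1 0) (o3 0) (r1 0) (r2 0) (r3 0) (r0 0))) →
  s true false true = Fp (Fp (vR (k 1) (o1 1) (o3 1) (r1 1) (r2 1) (r3 1) (r0 1))) →
  s false true true = vR (k 2) (o1 2) (o3 2) (r1 2) (r2 2) (r3 2) (r0 2) →
  s false false true = Fp (Fp (Fp (vN K1 K2 A A2 B))) → (∀ a b c, s a b c ≠ 0) → (∀ a b c, s (!a) (!b) (!c) = T ta (s a b c)) →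
  SS3 s → SA Fp s → SB Fp s → ∀ i < 3, o1 i = 0 ∧ o3 i = 0

end

end Cfsg.Agent.H955.L16
end

-- part: H280/L16/Mod
section
prune_inst 0x20002444702200000000001012000044080004000000000082800d0200090002004000002e000502180a0000080900000010000040000000000004000004000008c0000020000000000086000080000000000000020000000000000000000004000000000
set_option linter.all false
open scoped Cfsg.Agent.FastGrp

-- part: H280/L16/Ste
section
/-!
# S5916: the Steinberg module is not needed (helper280)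

`EE = ∑ ρ g` over the `g` with trace `≠ 0` commutes with `SL(2, 16)`, is `0` on the vectors fixed by an element of order 17
(`EE_fix`), and is `SS` on the vectors fixed by the Borel subgroup (`EE_borel`).
-/

set_option autoImplicit false
set_option linter.unusedSectionVars false

namespace Cfsg.Agent.H280.L16

open Matrix Cfsg.Agent.H943.SL2Rel Cfsg.Agent.H943.SL2Mod

variable {k : Type*} [Field k] {F : Type*} [Field F] [Fintype F] [DecidableEq F]

noncomputable instance instFintypeSL : Fintype (_root_.Matrix.SpecialLinearGroup (Fin 2) F) := Fintype.ofFinite _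

/-! ### sums over the group -/

/-- the parametrisation -/
def bru : (Fˣ × F) ⊕ (F × Fˣ × F) → _root_.Matrix.SpecialLinearGroup (Fin 2) F
  | Sum.inl x => h x.1 * u x.2
  | Sum.inr x => u x.1 * h x.2.1 * w * u x.2.2

theorem e00_hu (a : Fˣ) (t : F) : (h a * u t).1 0 0 = a := by
  show (!![(a : F), 0; 0, (a : F)⁻¹] * !![1, t; 0, 1]) 0 0 = a
  rw [Matrix.mul_fin_two]; simp

theorem e01_hu (a : Fˣ) (t : F) : (h a * u t).1 0 1 = a * t := by
  show (!![(a : F), 0; 0, (a : F)⁻¹] * !![1, t; 0, 1]) 0 1 = _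
  rw [Matrix.mul_fin_two]; simp

theorem e10_hu (a : Fˣ) (t : F) : (h a * u t).1 1 0 = 0 := by
  show (!![(a : F), 0; 0, (a : F)⁻¹] * !![1, t; 0, 1]) 1 0 = _
  rw [Matrix.mul_fin_two]; simp

theorem mat_uhwu (s : F) (a : Fˣ) (t : F) : (u s * h a * w * u t).1 =
    !![-(s * (a : F)⁻¹), a - s * (a : F)⁻¹ * t; -(a : F)⁻¹, -((a : F)⁻¹ * t)] := by
  show !![1, s; 0, 1] * !![(a : F), 0; 0, (a : F)⁻¹] * !![0, 1; -1, 0] * !![1, t; 0, 1] = _
  simp only [Matrix.mul_fin_two]
  ext i j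
  (revert i j; simp only [_root_.Fin.forall_fin_succ, _root_.one_mul, _root_.MulZeroClass.mul_zero, _root_.add_zero, _root_.zero_add, _root_.mul_neg, _root_.mul_one, _root_.neg_mul, _root_.MulZeroClass.zero_mul, _root_.Matrix.of_apply, _root_.Matrix.cons_val', _root_.Matrix.cons_val_fin_one, Fin.isValue, _root_.Matrix.cons_val_zero, _root_.Matrix.cons_val_succ, _root_.forall_const, _root_.true_and, _root_.implies_true, _root_.and_true]) <;> (repeat' with_reducible apply And.intro) <;> ring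

theorem bru_inj : Function.Injective (bru : (Fˣ × F) ⊕ (F × Fˣ × F) → _root_.Matrix.SpecialLinearGroup (Fin 2) F) := by
  rintro (⟨a, t⟩ | ⟨s, a, t⟩) (⟨a', t'⟩ | ⟨s', a', t'⟩) e
  · have e' : h a * u t = h a' * u t' := e
    have h1 : (a : F) = a' := by rw [← e00_hu a t, e', e00_hu]
    have h2 : a = a' := Units.ext h1
    subst h2
    have h3 : (a : F) * t = a * t' := by rw [← e01_hu a t, e', e01_hu]
    have h4 : t = t' := mul_left_cancel₀ a.ne_zero h3
    rw [h4]
  · exfalso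
    have e' : h a * u t = u s' * h a' * w * u t' := e
    have h1 : (0 : F) = -(a' : F)⁻¹ := by
      rw [← e10_hu a t, e', mat_uhwu]; rfl
    exact inv_ne_zero a'.ne_zero (neg_eq_zero.1 h1.symm)
  · exfalso
    have e' : u s * h a * w * u t = h a' * u t' := e
    have h1 : (0 : F) = -(a : F)⁻¹ := by
      rw [← e10_hu a' t', ← e', mat_uhwu]; rfl
    exact inv_ne_zero a.ne_zero (neg_eq_zero.1 h1.symm)
  · have e' : (u s * h a * w * u t).1 = (u s' * h a' * w * u t').1 := congrArg Subtype.val e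
    rw [mat_uhwu, mat_uhwu] at e'
    have h1 : -(a : F)⁻¹ = -(a' : F)⁻¹ := congrFun (congrFun e' 1) 0
    have h2 : a = a' := Units.ext (inv_injective (neg_injective h1))
    subst h2
    have ha := inv_ne_zero a.ne_zero
    have h3 : -(s * (a : F)⁻¹) = -(s' * (a : F)⁻¹) := congrFun (congrFun e' 0) 0
    have h4 : s = s' := mul_right_cancel₀ ha (neg_injective h3)
    have h5 : -((a : F)⁻¹ * t) = -((a : F)⁻¹ * t') := congrFun (congrFun e' 1) 1
    have h6 : t = t' := mul_left_cancel₀ ha (neg_injective h5)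
    rw [h4, h6]

theorem bru_surj : Function.Surjective (bru : (Fˣ × F) ⊕ (F × Fˣ × F) → _root_.Matrix.SpecialLinearGroup (Fin 2) F) := by
  intro g
  rcases bruhat g with ⟨a, t, rfl⟩ | ⟨s, a, t, rfl⟩
  · exact ⟨Sum.inl (a, t), rfl⟩
  · exact ⟨Sum.inr (s, a, t), rfl⟩

theorem sum_bruhat {M : Type*} [AddCommMonoid M] (f : _root_.Matrix.SpecialLinearGroup (Fin 2) F → M) :
    ∑ g, f g = ∑ a : Fˣ, ∑ t : F, f (h a * u t) + ∑ s : F, ∑ a : Fˣ, ∑ t : F, f (u s * h a * w * u t) := by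
  rw [← Fintype.sum_bijective bru ⟨bru_inj, bru_surj⟩ (fun x => f (bru x)) f fun _ => rfl, Fintype.sum_sum_type,
    Fintype.sum_prod_type, Fintype.sum_prod_type]
  congr 1
  refine Finset.sum_congr rfl fun s _ => ?_
  rw [Fintype.sum_prod_type]
  rfl

/-! ### the central element -/

/-- the characteristic function of trace `≠ 0` -/
def chi (k : Type*) [Field k] (g : _root_.Matrix.SpecialLinearGroup (Fin 2) F) : k := if g.1 0 0 + g.1 1 1 = 0 then 0 else 1

theorem chi_eq (g : _root_.Matrix.SpecialLinearGroup (Fin 2) F) : chi k g = if g.1.trace = 0 then 0 else 1 := by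
  unfold chi
  rw [Matrix.trace_fin_two]

theorem chi_conj (g x : _root_.Matrix.SpecialLinearGroup (Fin 2) F) : chi k (x * g * x⁻¹) = chi k g := by
  rw [chi_eq, chi_eq]
  have h1 : (x * g * x⁻¹).1.trace = g.1.trace := by
    rw [show (x * g * x⁻¹).1 = x.1 * g.1 * (x⁻¹).1 from rfl, Matrix.trace_mul_comm, ← Matrix.mul_assoc]
    have h2 : (x⁻¹).1 * x.1 = 1 := by
      have h3 : (x⁻¹ * x).1 = 1 := by rw [inv_mul_cancel]; rfl
      exact h3
    rw [h2, Matrix.one_mul]
  rw [h1]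

variable {V : Type*} [AddCommGroup V] [Module k V] (ρ : Representation k (_root_.Matrix.SpecialLinearGroup (Fin 2) F) V)

/-- `∑ ρ g`, trace `≠ 0` -/
noncomputable def EE : V →ₗ[k] V := ∑ g : _root_.Matrix.SpecialLinearGroup (Fin 2) F, chi k g • ρ g

theorem EE_apply (v : V) : EE ρ v = ∑ g : _root_.Matrix.SpecialLinearGroup (Fin 2) F, chi k g • ρ g v := by
  unfold EE
  rw [LinearMap.sum_apply]
  rfl

theorem EE_comm (x : _root_.Matrix.SpecialLinearGroup (Fin 2) F) (v : V) : EE ρ (ρ x v) = ρ x (EE ρ v) := by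
  rw [EE_apply, EE_apply, map_sum]
  refine Fintype.sum_equiv (MulAut.conj x⁻¹).toEquiv _ _ fun g => ?_
  show chi k g • ρ g (ρ x v) = ρ x (chi k (x⁻¹ * g * x⁻¹⁻¹) • ρ (x⁻¹ * g * x⁻¹⁻¹) v)
  rw [chi_conj, map_smul, apply_mul, apply_mul]
  congr 3
  group

/-- the kernel of `EE` is invariant -/
theorem inv_ker : _root_.Cfsg.Agent.H943.SL2Mod.Inv ρ (LinearMap.ker (EE ρ)) := by
  intro g x hx
  rw [LinearMap.mem_ker] at hx ⊢
  rw [EE_comm, hx, map_zero]

section Borel

variable [CharP k 2] (hF : Fintype.card F = 16)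
include hF

theorem k_two : (2 : k) = 0 := by
  have := CharP.cast_eq_zero k 2
  exact_mod_cast this

theorem F_char : CharP F 2 := by
  obtain ⟨n, hp, h1⟩ := FiniteField.card F (ringChar F)
  have h2 : ringChar F ∣ 16 := by rw [← hF, h1]; exact dvd_pow_self _ n.2.ne'
  have h3 : ringChar F = 2 := by
    have h4 : ringChar F ∣ 2 ^ 4 := by norm_num; exact h2
    exact (Nat.prime_dvd_prime_iff_eq hp Nat.prime_two).1 (hp.dvd_of_dvd_pow h4)
  rw [← h3]
  exact ringChar.charP F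

/-- **`EE = SS` on the vectors fixed by the Borel subgroup** -/
theorem EE_borel {d : V} (hu : ∀ t : F, ρ (u t) d = d) (hh : ∀ a : Fˣ, ρ (h a) d = d) : EE ρ d = SS ρ d := by
  have h2 : (2 : k) = 0 := k_two hF
  have h16 : ((16 : ℕ) : k) = 0 := by
    have : ((16 : ℕ) : k) = (2 : k) * 8 := by norm_num
    rw [this, h2, zero_mul]
  have h15 : ((15 : ℕ) : k) = 1 := by
    have : ((15 : ℕ) : k) = (2 : k) * 7 + 1 := by norm_num
    rw [this, h2, zero_mul, zero_add]
  have hcF : Fintype.card Fˣ = 15 := by rw [Fintype.card_units, hF]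
  rw [EE_apply, sum_bruhat]
  -- the Borel part
  have hB : ∑ a : Fˣ, ∑ t : F, chi k (h a * u t) • ρ (h a * u t) d = 0 := by
    refine Finset.sum_eq_zero fun a _ => ?_
    have h1 : ∀ t : F, chi k (h a * u t) • ρ (h a * u t) d = chi k (h a : _root_.Matrix.SpecialLinearGroup (Fin 2) F) • d := by
      intro t
      have e1 : chi k (h a * u t) = chi k (h a : _root_.Matrix.SpecialLinearGroup (Fin 2) F) := by
        unfold chi
        have e2 : (h a * u t).1 1 1 = (a : F)⁻¹ := by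
          show (!![(a : F), 0; 0, (a : F)⁻¹] * !![1, t; 0, 1]) 1 1 = _
          rw [Matrix.mul_fin_two]; simp
        rw [e00_hu, e2]
        rfl
      rw [e1, ← apply_mul, hu, hh]
    rw [Finset.sum_congr rfl fun t _ => h1 t, Finset.sum_const, Finset.card_univ, hF, ← Nat.cast_smul_eq_nsmul k,
      h16, zero_smul]
  rw [hB, zero_add, SS_apply]
  refine Finset.sum_congr rfl fun s _ => ?_
  have h1 : ∀ (a : Fˣ) (t : F), chi k (u s * h a * w * u t) • ρ (u s * h a * w * u t) d =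
      (if t = -s then (0 : k) else 1) • ρ (u s) (ρ w d) := by
    intro a t
    have e1 : chi k (u s * h a * w * u t) = if t = -s then (0 : k) else 1 := by
      unfold chi
      rw [mat_uhwu]
      have e2 : (!![-(s * (a : F)⁻¹), a - s * (a : F)⁻¹ * t; -(a : F)⁻¹, -((a : F)⁻¹ * t)] 0 0 +
        !![-(s * (a : F)⁻¹), a - s * (a : F)⁻¹ * t; -(a : F)⁻¹, -((a : F)⁻¹ * t)] 1 1 : F) = -(a : F)⁻¹ * (s + t) := by
        simp only [_root_.Fin.isValue, _root_.Matrix.of_apply, _root_.Matrix.cons_val', _root_.Matrix.cons_val_zero, _root_.Matrix.cons_val_fin_one, _root_.Matrix.cons_val_one, _root_.neg_mul]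
        ring
      rw [e2]
      congr 1
      rw [mul_eq_zero, neg_eq_zero]
      simp only [inv_ne_zero a.ne_zero, false_or]
      rw [add_comm, eq_iff_iff]
      exact add_eq_zero_iff_eq_neg
    have e3 : (u s * h a * w * u t : _root_.Matrix.SpecialLinearGroup (Fin 2) F) = u s * (w * (h a⁻¹ * u t)) := by
      rw [mul_assoc (u s * h a), mul_assoc (u s), ← mul_assoc (h a), h_w, mul_assoc w]
    rw [e1, e3, ← apply_mul, ← apply_mul, ← apply_mul, hu, hh]
  have h2' : ∀ a : Fˣ, ∑ t : F, chi k (u s * h a * w * u t) • ρ (u s * h a * w * u t) d = ρ (u s) (ρ w d) := by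
    intro a
    rw [Finset.sum_congr rfl fun t _ => h1 a t, ← Finset.sum_smul]
    have e4 : ∑ t : F, (if t = -s then (0 : k) else 1) = 1 := by
      have e5 : ∀ t : F, (if t = -s then (0 : k) else 1) = 1 - if t = -s then 1 else 0 := by
        intro t
        split <;> simp
      rw [Finset.sum_congr rfl fun t _ => e5 t, Finset.sum_sub_distrib, Finset.sum_const, Finset.card_univ, hF,
        Finset.sum_ite_eq' Finset.univ (-s), if_pos (Finset.mem_univ _), nsmul_eq_mul, h16, zero_mul, zero_sub]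
      have : (1 : k) + 1 = 0 := by rw [one_add_one_eq_two, h2]
      exact neg_eq_of_add_eq_zero_left this
    rw [e4, one_smul]
  rw [Finset.sum_congr rfl fun a _ => h2' a, Finset.sum_const, Finset.card_univ, hcF, ← Nat.cast_smul_eq_nsmul k,
    h15, one_smul]

end Borel

/-! ### the fixed vectors of an element of order 17 -/

section Fix

open Classical in
theorem count {k : Type*} [Field k] [CharP k 2] {ζ : k} (hζ : IsPrimitiveRoot ζ 17) {a d : k} (ha : a ^ 256 = a)
    (hd : d = a ^ 16) :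
    ∑ j ∈ Finset.range 17, (if a * (ζ⁻¹) ^ j + d * ζ ^ j = 0 then (0 : k) else 1) = 0 := by
  have h2 : (2 : k) = 0 := by
    have := CharP.cast_eq_zero k 2
    exact_mod_cast this
  have hadd : ∀ x : k, x + x = 0 := fun x => by rw [← two_mul, h2, zero_mul]
  have h17 : (17 : k) = 1 := by
    have : (17 : k) = 2 * 8 + 1 := by norm_num
    rw [this, h2, zero_mul, zero_add]
  by_cases h0 : a = 0
  · refine Finset.sum_eq_zero fun j _ => ?_
    rw [hd, h0]
    simp
  · have hζ0 : ζ ≠ 0 := hζ.ne_zero (by norm_num)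
    have h255 : a ^ 255 = 1 := by
      have : a * a ^ 255 = a * 1 := by rw [← pow_succ', mul_one, ha]
      exact mul_left_cancel₀ h0 this
    have h15 : ((a ^ 15)⁻¹) ^ 17 = 1 := by
      rw [inv_pow, ← pow_mul, h255, inv_one]
    obtain ⟨m, hm, hmζ⟩ := hζ.eq_pow_of_pow_eq_one h15
    -- the solution
    have key : ∀ j : ℕ, a * (ζ⁻¹) ^ j + d * ζ ^ j = 0 ↔ 2 * j % 17 = m := by
      intro j
      have e1 : a * (ζ⁻¹) ^ j + d * ζ ^ j = a * (ζ⁻¹) ^ j * (1 + a ^ 15 * ζ ^ (2 * j)) := by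
        rw [hd, mul_add, mul_one, two_mul, pow_add ζ]
        congr 1
        have e2 : (ζ⁻¹) ^ j * ζ ^ j = 1 := by rw [← mul_pow, inv_mul_cancel₀ hζ0, one_pow]
        calc a ^ 16 * ζ ^ j = a * a ^ 15 * ((ζ⁻¹) ^ j * ζ ^ j) * ζ ^ j := by rw [e2, mul_one, ← pow_succ']
          _ = a * (ζ⁻¹) ^ j * (a ^ 15 * (ζ ^ j * ζ ^ j)) := by ring
      rw [e1, mul_eq_zero]
      have e3 : ¬ a * (ζ⁻¹) ^ j = 0 := mul_ne_zero h0 (pow_ne_zero _ (inv_ne_zero hζ0))
      have e4 : (1 + a ^ 15 * ζ ^ (2 * j) = 0) ↔ ζ ^ (2 * j) = ζ ^ m := by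
        rw [hmζ]
        have h15' : a ^ 15 ≠ 0 := pow_ne_zero _ h0
        constructor
        · intro h
          have h5 : a ^ 15 * ζ ^ (2 * j) = 1 := by
            have h6 := hadd (1 : k)
            have h7 : (1 : k) + a ^ 15 * ζ ^ (2 * j) = 1 + 1 := by rw [h, h6]
            exact add_left_cancel h7
          exact eq_inv_of_mul_eq_one_right h5
        · intro h
          rw [h, mul_inv_cancel₀ h15']
          exact hadd 1
      have e5 : ζ ^ (2 * j) = ζ ^ (2 * j % 17) := (pow_mod_orderOf ζ (2 * j) ▸ hζ.eq_orderOf ▸ rfl)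
      simp only [e3, false_or]
      rw [e4, e5]
      exact ⟨fun h => hζ.pow_inj (Nat.mod_lt _ (by norm_num)) hm h, fun h => by rw [h]⟩
    have hc : ∀ m < 17, ∑ j ∈ Finset.range 17, (if 2 * j % 17 = m then 0 else 1) = 16 := by decide +kernel
    have hs : ∑ j ∈ Finset.range 17, (if a * (ζ⁻¹) ^ j + d * ζ ^ j = 0 then (0 : k) else 1) =
        ((∑ j ∈ Finset.range 17, (if 2 * j % 17 = m then 0 else 1) : ℕ) : k) := by
      rw [Nat.cast_sum]
      refine Finset.sum_congr rfl fun j _ => ?_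
      rw [show (a * (ζ⁻¹) ^ j + d * ζ ^ j = 0) = (2 * j % 17 = m) from propext (key j)]
      split <;> simp_all only [_root_.ne_eq, _root_.inv_pow, _root_.inv_eq_one, _root_.Finset.mem_range, _root_.Nat.cast_zero, _root_.Nat.cast_one]
    rw [hs, hc m hm]
    have : ((16 : ℕ) : k) = (2 : k) * 8 := by norm_num
    rw [this, h2, zero_mul]

end Fix

end Cfsg.Agent.H280.L16
end

-- part: H280/L16/Pdef
section
/-!
# S5916: the representation `P` in the eigenbasis of the element of order 17 (helper280)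

`P = A⁻¹ · (s.map ι) · A` with `A = !![1, ζ; ζ, 1]`: `P y = diag(ζ, ζ⁻¹)`, `P t0 = !![0, 1; 1, 0]`,
`(P s i j) ^ 16 = P s (1 - i) (1 - j)`.
-/

set_option autoImplicit false

namespace Cfsg.Agent.H280.L16

open Matrix

/-- the properties of `P` -/
structure PDat {k F : Type*} [Field k] [Field F] [Fintype F] (ι : F →+* k)
    (P : _root_.Matrix.SpecialLinearGroup (Fin 2) F →* Matrix (Fin 2) (Fin 2) k) (y t0 : _root_.Matrix.SpecialLinearGroup (Fin 2) F) (ζ : k) : Prop where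
  card : Fintype.card F = 16
  prim : IsPrimitiveRoot ζ 17
  y00 : P y 0 0 = ζ
  y01 : P y 0 1 = 0
  y10 : P y 1 0 = 0
  y11 : P y 1 1 = ζ⁻¹
  t : P t0 = !![0, 1; 1, 0]
  fr : ∀ s i j, (P s i j) ^ 16 = P s (1 - i) (1 - j)
  det : ∀ s, P s 0 0 * P s 1 1 - P s 0 1 * P s 1 0 = 1
  /-- the change of basis -/
  conj : ∃ A B : Matrix (Fin 2) (Fin 2) k, A * B = 1 ∧ B * A = 1 ∧
    ∀ s : _root_.Matrix.SpecialLinearGroup (Fin 2) F, P s = B * ((s : Matrix (Fin 2) (Fin 2) F).map ι) * A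

section

variable {k : Type*} [Field k] [CharP k 2] {F : Type*} [Field F] [Fintype F] (hF : Fintype.card F = 16)
  (ι : F →+* k) {ζ : k} (hζ : IsPrimitiveRoot ζ 17)

/-- conjugation as a homomorphism -/
def PP (A B : Matrix (Fin 2) (Fin 2) k) (h : A * B = 1) (h' : B * A = 1) :
    _root_.Matrix.SpecialLinearGroup (Fin 2) F →* Matrix (Fin 2) (Fin 2) k where
  toFun s := B * ((s : Matrix (Fin 2) (Fin 2) F).map ι) * A
  map_one' := by
    show B * ((1 : Matrix (Fin 2) (Fin 2) F).map ι) * A = 1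
    rw [Matrix.map_one ι (map_zero ι) (map_one ι), Matrix.mul_one, h']
  map_mul' s t := by
    show B * ((s.1 * t.1 : Matrix (Fin 2) (Fin 2) F).map ι) * A = B * (s.1.map ι) * A * (B * (t.1.map ι) * A)
    rw [Matrix.map_mul]
    calc B * ((s : Matrix (Fin 2) (Fin 2) F).map ι * (t : Matrix (Fin 2) (Fin 2) F).map ι) * A =
        B * ((s : Matrix (Fin 2) (Fin 2) F).map ι) * 1 * ((t : Matrix (Fin 2) (Fin 2) F).map ι) * A := by
          simp only [Matrix.mul_one, Matrix.mul_assoc]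
      _ = _ := by rw [← h]; simp only [Matrix.mul_assoc]

include hF hζ in
theorem exists_P {c : F} (hc : ι c = ζ + ζ⁻¹) {y t0 : _root_.Matrix.SpecialLinearGroup (Fin 2) F}
    (hy : (y : Matrix (Fin 2) (Fin 2) F) = !![0, 1; 1, c]) (ht : (t0 : Matrix (Fin 2) (Fin 2) F) = !![0, 1; 1, 0]) :
    ∃ P : _root_.Matrix.SpecialLinearGroup (Fin 2) F →* Matrix (Fin 2) (Fin 2) k, PDat ι P y t0 ζ := by
  have h2 : (2 : k) = 0 := by
    have := CharP.cast_eq_zero k 2
    exact_mod_cast this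
  have hadd : ∀ x : k, x + x = 0 := fun x => by rw [← two_mul, h2, zero_mul]
  have hneg : ∀ x : k, -x = x := fun x => neg_eq_of_add_eq_zero_left (hadd x)
  have hζ0 : ζ ≠ 0 := hζ.ne_zero (by norm_num)
  have hq : 1 + ζ * ζ ≠ 0 := by
    intro h
    have h1 : ζ ^ 2 = 1 := by
      have : ζ * ζ = -1 := by rw [← add_eq_zero_iff_eq_neg, add_comm]; exact h
      rw [pow_two, this, hneg]
    have := (hζ.pow_eq_one_iff_dvd 2).1 h1
    omega
  set q : k := (1 + ζ * ζ)⁻¹ with hqd
  set A : Matrix (Fin 2) (Fin 2) k := !![1, ζ; ζ, 1] with hA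
  set B : Matrix (Fin 2) (Fin 2) k := !![q, q * ζ; q * ζ, q] with hB
  have hq1 : q * (1 + ζ * ζ) = 1 := inv_mul_cancel₀ hq
  have hBA : B * A = 1 := by
    rw [hA, hB]
    ext i j
    fin_cases i <;> fin_cases j <;> simp only [Matrix.mul_apply, Fin.sum_univ_two, _root_.Fin.zero_eta, _root_.Fin.isValue, _root_.Matrix.of_apply, _root_.Matrix.cons_val', _root_.Matrix.cons_val_fin_one, _root_.Matrix.cons_val_zero, _root_.mul_one, _root_.Matrix.cons_val_one, _root_.Matrix.one_apply_eq, _root_.Fin.mk_one, _root_.ne_eq, _root_.zero_ne_one, _root_.not_false_eq_true, _root_.Matrix.one_apply_ne, _root_.one_ne_zero]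
    · rw [← hq1]; ring
    · rw [mul_comm]; exact hadd _
    · exact hadd _
    · rw [← hq1]; ring
  have hAB : A * B = 1 := mul_eq_one_comm.1 hBA
  have h16 : ζ ^ 16 = ζ⁻¹ := by
    apply eq_inv_of_mul_eq_one_left
    rw [← pow_succ]
    exact hζ.pow_eq_one
  have hP : ∀ s, PP ι A B hAB hBA s = B * ((s : Matrix (Fin 2) (Fin 2) F).map ι) * A := fun _ => rfl
  have hy' : PP ι A B hAB hBA y = !![ζ, 0; 0, ζ⁻¹] := by
    have e1 : ((y : Matrix (Fin 2) (Fin 2) F).map ι) * A = A * !![ζ, 0; 0, ζ⁻¹] := by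
      rw [hy, hA]
      ext i j
      fin_cases i <;> fin_cases j <;> simp only [Matrix.mul_apply, Fin.sum_univ_two, hc, hζ0, _root_.Fin.zero_eta, _root_.Fin.isValue, _root_.Matrix.map_apply, _root_.Matrix.of_apply, _root_.Matrix.cons_val', _root_.Matrix.cons_val_fin_one, _root_.Matrix.cons_val_zero, _root_.map_zero, _root_.mul_one, _root_.Matrix.cons_val_one, _root_.map_one, _root_.one_mul, _root_.zero_add, _root_.MulZeroClass.mul_zero, _root_.add_zero, _root_.Fin.mk_one, _root_.MulZeroClass.zero_mul, _root_.ne_eq, _root_.not_false_eq_true, _root_.mul_inv_cancel₀]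
      · have : 1 + (ζ + ζ⁻¹) * ζ = (1 + 1) + ζ * ζ := by
          rw [add_mul, inv_mul_cancel₀ hζ0]; ring
        rw [this, hadd, zero_add]
      · rw [← add_assoc, hadd, zero_add]
    rw [hP, Matrix.mul_assoc, e1, ← Matrix.mul_assoc, hBA, Matrix.one_mul]
  have ht' : PP ι A B hAB hBA t0 = !![0, 1; 1, 0] := by
    have e1 : ((t0 : Matrix (Fin 2) (Fin 2) F).map ι) * A = A * !![0, 1; 1, 0] := by
      rw [ht, hA]
      ext i j
      (revert i j; simp only [Matrix.mul_apply, Fin.sum_univ_two, _root_.Fin.forall_fin_succ, _root_.Matrix.map_apply, _root_.Matrix.of_apply, _root_.Matrix.cons_val', _root_.Matrix.cons_val_fin_one, Fin.isValue, _root_.Matrix.cons_val_zero, _root_.Matrix.cons_val_one, _root_.mul_one, _root_.MulZeroClass.mul_zero, _root_.zero_add, _root_.Matrix.cons_val_succ, _root_.add_zero, _root_.forall_const, _root_.map_zero, _root_.map_one, _root_.one_mul, _root_.MulZeroClass.zero_mul, _root_.and_self, _root_.implies_true])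
    rw [hP, Matrix.mul_assoc, e1, ← Matrix.mul_assoc, hBA, Matrix.one_mul]
  refine ⟨PP ι A B hAB hBA, hF, hζ, ?_, ?_, ?_, ?_, ht', fun s i j => ?_, fun s => ?_, A, B, hAB, hBA, fun s => rfl⟩
  · rw [hy']; rfl
  · rw [hy']; rfl
  · rw [hy']; rfl
  · rw [hy']; rfl
  · -- the Frobenius map
    have hpow : ∀ x : F, (ι x) ^ 16 = ι x := fun x => by
      rw [← map_pow, ← hF, FiniteField.pow_card]
    have hadd16 : ∀ x y : k, (x + y) ^ 16 = x ^ 16 + y ^ 16 := fun x y => by
      have : (16 : ℕ) = 2 ^ 4 := by norm_num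
      rw [this, add_pow_char_pow]
    have hq16 : q ^ 16 = q * ζ * ζ := by
      have e1 : (1 + ζ * ζ) ^ 16 = (1 + ζ * ζ) * (ζ⁻¹ * ζ⁻¹) := by
        rw [hadd16, mul_pow, h16, one_pow]
        field_simp
        ring
      rw [hqd, inv_pow, e1, mul_inv, mul_inv, inv_inv, mul_assoc]
    have hent : ∀ s : _root_.Matrix.SpecialLinearGroup (Fin 2) F, ∀ i j, PP ι A B hAB hBA s i j =
      (B i 0 * ι (s.1 0 0) + B i 1 * ι (s.1 1 0)) * A 0 j + (B i 0 * ι (s.1 0 1) + B i 1 * ι (s.1 1 1)) * A 1 j := by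
      intro s i j
      rw [hP, Matrix.mul_apply, Fin.sum_univ_two, Matrix.mul_apply, Fin.sum_univ_two, Matrix.mul_apply, Fin.sum_univ_two]
      rfl
    rw [hent, hent]
    have ha : ∀ i j, (A i j) ^ 16 = ζ⁻¹ * A i (1 - j) := by
      intro i j
      rw [hA]
      (revert i j; simp only [h16, hζ0, _root_.Fin.forall_fin_succ, _root_.Matrix.of_apply, _root_.Matrix.cons_val', _root_.Matrix.cons_val_fin_one, Fin.isValue, _root_.Matrix.cons_val_zero, _root_.sub_zero, _root_.Matrix.cons_val_one, _root_.Matrix.cons_val_succ, _root_.Fin.succ_zero_eq_one, _root_.sub_self, _root_.IsEmpty.forall_iff, _root_.and_true, _root_.one_pow, _root_.ne_eq, _root_.not_false_eq_true, _root_.inv_mul_cancel₀, _root_.mul_one, _root_.and_self, _root_.implies_true])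
    have hb : ∀ i j, (B i j) ^ 16 = ζ * B (1 - i) j := by
      intro i j
      rw [hB]
      (revert i j; simp only [mul_pow, h16, hq16, hζ0, _root_.Fin.forall_fin_succ, _root_.Matrix.of_apply, _root_.Matrix.cons_val', _root_.Matrix.cons_val_fin_one, Fin.isValue, _root_.Matrix.cons_val_zero, _root_.Matrix.cons_val_succ, _root_.forall_const, _root_.sub_zero, _root_.Matrix.cons_val_one, _root_.ne_eq, _root_.not_false_eq_true, _root_.mul_inv_cancel_right₀, _root_.Fin.succ_zero_eq_one, _root_.sub_self, _root_.IsEmpty.forall_iff, _root_.and_true]) <;> (repeat' with_reducible apply And.intro) <;> field_simp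
    rw [hadd16, mul_pow, mul_pow, hadd16, hadd16, mul_pow, mul_pow, mul_pow, mul_pow, hpow, hpow, hpow, hpow,
      ha, ha, hb, hb]
    have hz : ζ * ζ⁻¹ = 1 := mul_inv_cancel₀ hζ0
    linear_combination ((B (1 - i) 0 * ι (s.1 0 0) + B (1 - i) 1 * ι (s.1 1 0)) * A 0 (1 - j) +
      (B (1 - i) 0 * ι (s.1 0 1) + B (1 - i) 1 * ι (s.1 1 1)) * A 1 (1 - j)) * hz
  · have e1 : (PP ι A B hAB hBA s).det = 1 := by
      rw [hP, Matrix.det_mul, Matrix.det_mul]
      have e2 : ((s : Matrix (Fin 2) (Fin 2) F).map ι).det = 1 := by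
        have := (RingHom.map_det ι (s : Matrix (Fin 2) (Fin 2) F)).symm
        rw [s.2, map_one] at this
        exact this
      rw [e2, mul_one, ← Matrix.det_mul, hBA, Matrix.det_one]
    rw [Matrix.det_fin_two] at e1
    exact e1

end

end Cfsg.Agent.H280.L16
end

-- part: H280/L16/Fix
section
/-!
# S5916: `EE v = 0` for the vectors fixed by the element of order 17 (helper280)
-/

set_option autoImplicit false
set_option linter.unusedSectionVars false

namespace Cfsg.Agent.H280.L16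

open Matrix Cfsg.Agent.H943.SL2Rel Cfsg.Agent.H943.SL2Mod

variable {k : Type*} [Field k] [CharP k 2] {F : Type*} [Field F] [Fintype F] [DecidableEq F] {ι : F →+* k}
  {P : _root_.Matrix.SpecialLinearGroup (Fin 2) F →* Matrix (Fin 2) (Fin 2) k} {y t0 : _root_.Matrix.SpecialLinearGroup (Fin 2) F} {ζ : k}

theorem PDat.trace (D : PDat ι P y t0 ζ) (g : _root_.Matrix.SpecialLinearGroup (Fin 2) F) :
    ι (g.1 0 0 + g.1 1 1) = P g 0 0 + P g 1 1 := by
  obtain ⟨A, B, hAB, hBA, hP⟩ := D.conj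
  have h1 : (P g).trace = ((g : Matrix (Fin 2) (Fin 2) F).map ι).trace := by
    rw [hP, Matrix.trace_mul_comm, ← Matrix.mul_assoc, hAB, Matrix.one_mul]
  rw [Matrix.trace_fin_two, Matrix.trace_fin_two] at h1
  rw [h1, map_add]
  rfl

theorem PDat.yP (D : PDat ι P y t0 ζ) : P y = !![ζ, 0; 0, ζ⁻¹] := by
  ext i j
  fin_cases i <;> fin_cases j
  · exact D.y00
  · exact D.y01
  · exact D.y10
  · exact D.y11

theorem PDat.zeta_ne (D : PDat ι P y t0 ζ) : ζ ≠ 0 := D.prim.ne_zero (by norm_num)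

theorem PDat.yinvP (D : PDat ι P y t0 ζ) : P y⁻¹ = !![ζ⁻¹, 0; 0, ζ] := by
  have h0 := D.zeta_ne
  have h1 : P y * !![ζ⁻¹, 0; 0, ζ] = 1 := by
    rw [D.yP]
    ext i j
    (revert i j; simp only [Matrix.mul_apply, Fin.sum_univ_two, h0, _root_.Fin.forall_fin_succ, _root_.Matrix.of_apply, _root_.Matrix.cons_val', _root_.Matrix.cons_val_fin_one, Fin.isValue, _root_.Matrix.cons_val_zero, _root_.Matrix.cons_val_one, _root_.MulZeroClass.mul_zero, _root_.add_zero, _root_.Matrix.cons_val_succ, _root_.zero_add, _root_.IsEmpty.forall_iff, _root_.and_true, _root_.ne_eq, _root_.not_false_eq_true, _root_.mul_inv_cancel₀, _root_.Matrix.one_apply_eq, _root_.MulZeroClass.zero_mul, Nat.reduceAdd, _root_.Fin.succ_zero_eq_one, _root_.zero_ne_one, _root_.Matrix.one_apply_ne, _root_.and_self, _root_.Fin.succ_ne_zero, _root_.inv_mul_cancel₀, _root_.true_and])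
  have h2 : P y⁻¹ * P y = 1 := by rw [← map_mul, inv_mul_cancel, map_one]
  calc P y⁻¹ = P y⁻¹ * (P y * !![ζ⁻¹, 0; 0, ζ]) := by rw [h1, Matrix.mul_one]
    _ = !![ζ⁻¹, 0; 0, ζ] := by rw [← Matrix.mul_assoc, h2, Matrix.one_mul]

theorem PDat.yinv_pow (D : PDat ι P y t0 ζ) (j : ℕ) : P (y⁻¹ ^ j) = !![(ζ⁻¹) ^ j, 0; 0, ζ ^ j] := by
  induction j with
  | zero =>
    rw [pow_zero, map_one, pow_zero, pow_zero]
    ext i j
    fin_cases i <;> fin_cases j <;> rfl
  | succ j ih =>
    rw [pow_succ, map_mul, ih, D.yinvP]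
    ext i j
    (revert i j; simp only [Matrix.mul_apply, Fin.sum_univ_two, pow_succ, _root_.Fin.forall_fin_succ, _root_.inv_pow, _root_.Matrix.of_apply, _root_.Matrix.cons_val', _root_.Matrix.cons_val_fin_one, Fin.isValue, _root_.Matrix.cons_val_zero, _root_.Matrix.cons_val_one, _root_.MulZeroClass.mul_zero, _root_.add_zero, _root_.Matrix.cons_val_succ, _root_.zero_add, _root_.forall_const, _root_.MulZeroClass.zero_mul, _root_.and_self, _root_.implies_true])

theorem PDat.trace_pow (D : PDat ι P y t0 ζ) (g : _root_.Matrix.SpecialLinearGroup (Fin 2) F) (j : ℕ) :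
    ι ((g * y⁻¹ ^ j).1 0 0 + (g * y⁻¹ ^ j).1 1 1) = P g 0 0 * (ζ⁻¹) ^ j + P g 1 1 * ζ ^ j := by
  rw [D.trace, map_mul, D.yinv_pow, Matrix.mul_apply, Matrix.mul_apply, Fin.sum_univ_two, Fin.sum_univ_two]
  simp only [_root_.Fin.isValue, _root_.inv_pow, _root_.Matrix.of_apply, _root_.Matrix.cons_val', _root_.Matrix.cons_val_zero, _root_.Matrix.cons_val_fin_one, _root_.Matrix.cons_val_one, _root_.MulZeroClass.mul_zero, _root_.add_zero, _root_.zero_add]

variable {V : Type*} [AddCommGroup V] [Module k V] (ρ : Representation k (_root_.Matrix.SpecialLinearGroup (Fin 2) F) V)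

/-- **`EE v = 0`** -/
theorem EE_fix (D : PDat ι P y t0 ζ) {v : V} (hv : ρ y v = v) : EE ρ v = 0 := by
  classical
  have h2 : (2 : k) = 0 := by
    have := CharP.cast_eq_zero k 2
    exact_mod_cast this
  have h17 : ((17 : ℕ) : k) = 1 := by
    have : ((17 : ℕ) : k) = (2 : k) * 8 + 1 := by norm_num
    rw [this, h2, zero_mul, zero_add]
  have hvj : ∀ j : ℕ, ρ (y ^ j) v = v := by
    intro j
    induction j with
    | zero => rw [pow_zero, map_one]; rfl
    | succ j ih => rw [pow_succ, ← apply_mul, hv, ih]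
  have e1 : ∀ j : ℕ, EE ρ v = ∑ g : _root_.Matrix.SpecialLinearGroup (Fin 2) F, chi k (g * y⁻¹ ^ j) • ρ g v := by
    intro j
    rw [EE_apply]
    refine Fintype.sum_equiv (Equiv.mulRight (y ^ j)) _ _ fun g => ?_
    show chi k g • ρ g v = chi k (g * y ^ j * y⁻¹ ^ j) • ρ (g * y ^ j) v
    rw [inv_pow, mul_inv_cancel_right, ← apply_mul, hvj]
  have e2 : ∑ j ∈ Finset.range 17, EE ρ v = EE ρ v := by
    rw [Finset.sum_const, Finset.card_range, ← Nat.cast_smul_eq_nsmul k, h17, one_smul]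
  rw [← e2, Finset.sum_congr rfl fun j _ => e1 j, Finset.sum_comm]
  refine Finset.sum_eq_zero fun g _ => ?_
  rw [← Finset.sum_smul]
  have e3 : ∀ j ∈ Finset.range 17, chi k (g * y⁻¹ ^ j) =
      if P g 0 0 * (ζ⁻¹) ^ j + P g 1 1 * ζ ^ j = 0 then (0 : k) else 1 := by
    intro j _
    unfold chi
    rw [← D.trace_pow]
    have e4 : ((g * y⁻¹ ^ j).1 0 0 + (g * y⁻¹ ^ j).1 1 1 = 0) ↔ (ι ((g * y⁻¹ ^ j).1 0 0 + (g * y⁻¹ ^ j).1 1 1) = 0) :=
      (map_eq_zero ι).symm
    by_cases h : (g * y⁻¹ ^ j).1 0 0 + (g * y⁻¹ ^ j).1 1 1 = 0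
    · rw [if_pos h, if_pos (e4.1 h)]
    · rw [if_neg h, if_neg fun h' => h (e4.2 h')]
  rw [Finset.sum_congr rfl e3]
  have hd : P g 1 1 = P g 0 0 ^ 16 := (D.fr g 0 0).symm
  have ha : P g 0 0 ^ 256 = P g 0 0 := by
    have h3 : P g 1 1 ^ 16 = P g 0 0 := D.fr g 1 1
    rw [hd, ← pow_mul] at h3
    exact h3
  rw [count D.prim ha hd, zero_smul]

end Cfsg.Agent.H280.L16
end

-- part: H280/L16/Mod
section
/-!
# S5916: families of vectors in place of simple modules (helper280)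

`Fam1`, `Fam2`, `Fam3`: the vectors `w a`, `w a c`, `w a c e` transform like `⊗ P^(2 ^ i)`.

`exists_fam`: a module with a non-zero vector fixed by the element of order 17 and without fixed vectors of the group has
a non-zero family of one of these types (the Steinberg module is not needed).
-/

set_option autoImplicit false
set_option linter.unusedSectionVars false

namespace Cfsg.Agent.H280.L16

open Matrix Cfsg.Agent.H943.SL2Rel Cfsg.Agent.H943.SL2Mod Cfsg.Agent.H943.RepAdd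

section Def

variable {k : Type*} [Field k] {F : Type*} [Field F] {V : Type*} [AddCommGroup V] [Module k V]
  (P : _root_.Matrix.SpecialLinearGroup (Fin 2) F →* Matrix (Fin 2) (Fin 2) k)
  (ρ : Representation k (_root_.Matrix.SpecialLinearGroup (Fin 2) F) V)

/-- the vectors `w a` transform like `P^(2 ^ i)` -/
def Fam1 (i : ℕ) (w : Fin 2 → V) : Prop := ∀ s a, ρ s (w a) = ∑ b, (P s b a) ^ 2 ^ i • w b

/-- the vectors `w a c` transform like `P^(2 ^ i) ⊗ P^(2 ^ j)` -/
def Fam2 (i j : ℕ) (w : Fin 2 → Fin 2 → V) : Prop :=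
  ∀ s a c, ρ s (w a c) = ∑ b, ∑ d, ((P s b a) ^ 2 ^ i * (P s d c) ^ 2 ^ j) • w b d

/-- the vectors `w a c e` transform like `P^(2 ^ i) ⊗ P^(2 ^ j) ⊗ P^(2 ^ l)` -/
def Fam3 (i j l : ℕ) (w : Fin 2 → Fin 2 → Fin 2 → V) : Prop :=
  ∀ s a c e, ρ s (w a c e) = ∑ b, ∑ d, ∑ f, ((P s b a) ^ 2 ^ i * (P s d c) ^ 2 ^ j * (P s f e) ^ 2 ^ l) • w b d f

end Def

section Fun

variable {k : Type*} [Field k] [CharP k 2] {F : Type*} [Field F] (ι : F →+* k) (A : Matrix (Fin 2) (Fin 2) k)

/-- the coordinate functions in the basis of the columns of `A` -/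
def lam (a : Fin 2) : F × F → k := fun z => A 0 a * ι z.1 + A 1 a * ι z.2

variable {ι A} {P : _root_.Matrix.SpecialLinearGroup (Fin 2) F →* Matrix (Fin 2) (Fin 2) k}

theorem lam_act {B : Matrix (Fin 2) (Fin 2) k} (hAB : A * B = 1)
    (hP : ∀ s : _root_.Matrix.SpecialLinearGroup (Fin 2) F, P s = B * ((s : Matrix (Fin 2) (Fin 2) F).map ι) * A)
    (s : _root_.Matrix.SpecialLinearGroup (Fin 2) F) (a : Fin 2) (z : F × F) :
    lam ι A a (z.1 * s.1 0 0 + z.2 * s.1 1 0, z.1 * s.1 0 1 + z.2 * s.1 1 1) =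
      P s 0 a * lam ι A 0 z + P s 1 a * lam ι A 1 z := by
  have h1 : A * P s = ((s : Matrix (Fin 2) (Fin 2) F).map ι) * A := by
    rw [hP, ← Matrix.mul_assoc, ← Matrix.mul_assoc, hAB, Matrix.one_mul]
  have h0 := congrFun (congrFun h1 0) a
  have h1' := congrFun (congrFun h1 1) a
  rw [Matrix.mul_apply, Matrix.mul_apply, Fin.sum_univ_two, Fin.sum_univ_two] at h0 h1'
  simp only [Matrix.map_apply] at h0 h1'
  unfold lam
  simp only [map_add, map_mul]
  linear_combination -(ι z.1) * h0 - (ι z.2) * h1'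

theorem lam_act_pow {B : Matrix (Fin 2) (Fin 2) k} (hAB : A * B = 1)
    (hP : ∀ s : _root_.Matrix.SpecialLinearGroup (Fin 2) F, P s = B * ((s : Matrix (Fin 2) (Fin 2) F).map ι) * A) (i : ℕ)
    (s : _root_.Matrix.SpecialLinearGroup (Fin 2) F) (a : Fin 2) (z : F × F) :
    (lam ι A a (z.1 * s.1 0 0 + z.2 * s.1 1 0, z.1 * s.1 0 1 + z.2 * s.1 1 1)) ^ 2 ^ i =
      (P s 0 a) ^ 2 ^ i * (lam ι A 0 z) ^ 2 ^ i + (P s 1 a) ^ 2 ^ i * (lam ι A 1 z) ^ 2 ^ i := by
  rw [lam_act hAB hP, add_pow_char_pow, mul_pow, mul_pow]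

theorem lam_pow (i : ℕ) (a : Fin 2) (z : F × F) :
    (lam ι A a z) ^ 2 ^ i = (A 0 a) ^ 2 ^ i * (ι z.1) ^ 2 ^ i + (A 1 a) ^ 2 ^ i * (ι z.2) ^ 2 ^ i := by
  unfold lam
  rw [add_pow_char_pow, mul_pow, mul_pow]

theorem mem_Bb_of {b m : ℕ} (h : m ≤ b) (h2 : b.choose m % 2 = 1) : m ∈ Bb k b := by
  refine ⟨h, fun h0 => ?_⟩
  have := (CharP.cast_eq_zero_iff k 2 _).1 h0
  omega

variable [Fintype F] [DecidableEq F] [CharP F 2] [DecidableEq k]

theorem mem1 (hs1 : (-1 : k) ^ (Fintype.card F - 1) = 1) {i : ℕ} (hb : 2 ^ i ≤ Fintype.card F - 1)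
    (h0 : ∀ m ∈ [0, 2 ^ i], m ∈ Bb k (2 ^ i)) (a : Fin 2) :
    (fun z => (lam ι A a z) ^ 2 ^ i) ∈ Vb ι (2 ^ i) := by
  have e : (fun z => (lam ι A a z) ^ 2 ^ i) = (A 0 a) ^ 2 ^ i • mon ι (2 ^ i) (2 ^ i) + (A 1 a) ^ 2 ^ i • mon ι (2 ^ i) 0 := by
    funext z
    rw [lam_pow]
    show _ = (A 0 a) ^ 2 ^ i * (ι z.1 ^ 2 ^ i * ι z.2 ^ (2 ^ i - 2 ^ i)) + (A 1 a) ^ 2 ^ i * (ι z.1 ^ 0 * ι z.2 ^ (2 ^ i - 0))
    rw [Nat.sub_self, Nat.sub_zero, pow_zero, pow_zero]
    ring
  rw [e]
  exact add_mem (Submodule.smul_mem _ _ (Cfsg.Agent.H179.SLC.mon_mem_Vb ι 2 hs1 hb (h0 _ (by simp))))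
    (Submodule.smul_mem _ _ (Cfsg.Agent.H179.SLC.mon_mem_Vb ι 2 hs1 hb (h0 _ (by simp))))

theorem mem2 (hs1 : (-1 : k) ^ (Fintype.card F - 1) = 1) {i j : ℕ} (hb : 2 ^ i + 2 ^ j ≤ Fintype.card F - 1)
    (h0 : ∀ m ∈ [0, 2 ^ i, 2 ^ j, 2 ^ i + 2 ^ j], m ∈ Bb k (2 ^ i + 2 ^ j)) (a c : Fin 2) :
    (fun z => (lam ι A a z) ^ 2 ^ i * (lam ι A c z) ^ 2 ^ j) ∈ Vb ι (2 ^ i + 2 ^ j) := by
  have e : (fun z => (lam ι A a z) ^ 2 ^ i * (lam ι A c z) ^ 2 ^ j) =
      ((A 0 a) ^ 2 ^ i * (A 0 c) ^ 2 ^ j) • mon ι (2 ^ i + 2 ^ j) (2 ^ i + 2 ^ j) +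
      ((A 0 a) ^ 2 ^ i * (A 1 c) ^ 2 ^ j) • mon ι (2 ^ i + 2 ^ j) (2 ^ i) +
      ((A 1 a) ^ 2 ^ i * (A 0 c) ^ 2 ^ j) • mon ι (2 ^ i + 2 ^ j) (2 ^ j) +
      ((A 1 a) ^ 2 ^ i * (A 1 c) ^ 2 ^ j) • mon ι (2 ^ i + 2 ^ j) 0 := by
    funext z
    rw [lam_pow, lam_pow]
    simp only [Pi.add_apply, Pi.smul_apply, smul_eq_mul, mon]
    rw [Nat.sub_self, Nat.sub_zero, Nat.add_sub_cancel, Nat.add_sub_cancel_left, pow_zero, pow_zero, pow_add, pow_add]
    ring
  rw [e]
  have hm : ∀ m ∈ [0, 2 ^ i, 2 ^ j, 2 ^ i + 2 ^ j], mon ι (2 ^ i + 2 ^ j) m ∈ Vb ι (2 ^ i + 2 ^ j) := fun m h =>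
    Cfsg.Agent.H179.SLC.mon_mem_Vb ι 2 hs1 hb (h0 m h)
  exact add_mem (add_mem (add_mem (Submodule.smul_mem _ _ (hm _ (by simp))) (Submodule.smul_mem _ _ (hm _ (by simp))))
    (Submodule.smul_mem _ _ (hm _ (by simp)))) (Submodule.smul_mem _ _ (hm _ (by simp)))

theorem mem3 (hs1 : (-1 : k) ^ (Fintype.card F - 1) = 1) {i j l : ℕ} (hb : 2 ^ i + 2 ^ j + 2 ^ l ≤ Fintype.card F - 1)
    (h0 : ∀ m ∈ [0, 2 ^ i, 2 ^ j, 2 ^ l, 2 ^ i + 2 ^ j, 2 ^ i + 2 ^ l, 2 ^ j + 2 ^ l, 2 ^ i + 2 ^ j + 2 ^ l],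
      m ∈ Bb k (2 ^ i + 2 ^ j + 2 ^ l)) (a c e : Fin 2) :
    (fun z => (lam ι A a z) ^ 2 ^ i * (lam ι A c z) ^ 2 ^ j * (lam ι A e z) ^ 2 ^ l) ∈ Vb ι (2 ^ i + 2 ^ j + 2 ^ l) := by
  have e : (fun z => (lam ι A a z) ^ 2 ^ i * (lam ι A c z) ^ 2 ^ j * (lam ι A e z) ^ 2 ^ l) =
      ((A 0 a) ^ 2 ^ i * (A 0 c) ^ 2 ^ j * (A 0 e) ^ 2 ^ l) • mon ι (2 ^ i + 2 ^ j + 2 ^ l) (2 ^ i + 2 ^ j + 2 ^ l) +
      ((A 0 a) ^ 2 ^ i * (A 0 c) ^ 2 ^ j * (A 1 e) ^ 2 ^ l) • mon ι (2 ^ i + 2 ^ j + 2 ^ l) (2 ^ i + 2 ^ j) +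
      ((A 0 a) ^ 2 ^ i * (A 1 c) ^ 2 ^ j * (A 0 e) ^ 2 ^ l) • mon ι (2 ^ i + 2 ^ j + 2 ^ l) (2 ^ i + 2 ^ l) +
      ((A 0 a) ^ 2 ^ i * (A 1 c) ^ 2 ^ j * (A 1 e) ^ 2 ^ l) • mon ι (2 ^ i + 2 ^ j + 2 ^ l) (2 ^ i) +
      ((A 1 a) ^ 2 ^ i * (A 0 c) ^ 2 ^ j * (A 0 e) ^ 2 ^ l) • mon ι (2 ^ i + 2 ^ j + 2 ^ l) (2 ^ j + 2 ^ l) +
      ((A 1 a) ^ 2 ^ i * (A 0 c) ^ 2 ^ j * (A 1 e) ^ 2 ^ l) • mon ι (2 ^ i + 2 ^ j + 2 ^ l) (2 ^ j) +
      ((A 1 a) ^ 2 ^ i * (A 1 c) ^ 2 ^ j * (A 0 e) ^ 2 ^ l) • mon ι (2 ^ i + 2 ^ j + 2 ^ l) (2 ^ l) +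
      ((A 1 a) ^ 2 ^ i * (A 1 c) ^ 2 ^ j * (A 1 e) ^ 2 ^ l) • mon ι (2 ^ i + 2 ^ j + 2 ^ l) 0 := by
    funext z
    rw [lam_pow, lam_pow, lam_pow]
    simp only [Pi.add_apply, Pi.smul_apply, smul_eq_mul, mon]
    have hn : ∀ p q r : ℕ, p + q + r - (p + q) = r ∧ p + q + r - (p + r) = q ∧ p + q + r - (q + r) = p ∧
      p + q + r - p = q + r ∧ p + q + r - q = p + r ∧ p + q + r - r = p + q := by omega
    obtain ⟨e1, e2, e3, e4, e5, e6⟩ := hn (2 ^ i) (2 ^ j) (2 ^ l)
    rw [Nat.sub_self, Nat.sub_zero, e1, e2, e3, e4, e5, e6]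
    simp only [pow_zero, pow_add]
    ring
  rw [e]
  have hm : ∀ m ∈ [0, 2 ^ i, 2 ^ j, 2 ^ l, 2 ^ i + 2 ^ j, 2 ^ i + 2 ^ l, 2 ^ j + 2 ^ l, 2 ^ i + 2 ^ j + 2 ^ l],
      mon ι (2 ^ i + 2 ^ j + 2 ^ l) m ∈ Vb ι (2 ^ i + 2 ^ j + 2 ^ l) := fun m h =>
    Cfsg.Agent.H179.SLC.mon_mem_Vb ι 2 hs1 hb (h0 m h)
  exact add_mem (add_mem (add_mem (add_mem (add_mem (add_mem (add_mem (Submodule.smul_mem _ _ (hm _ (by simp)))
    (Submodule.smul_mem _ _ (hm _ (by simp only [_root_.List.mem_cons, _root_.Nat.add_eq_zero_iff, _root_.Nat.pow_eq_zero, _root_.OfNat.ofNat_ne_zero, _root_.ne_eq, _root_.false_and, _root_.and_self, _root_.Nat.add_eq_left, _root_.Nat.add_eq_right, _root_.Nat.add_left_cancel_iff, _root_.Order.lt_two_iff, _root_.zero_le, _root_.OfNat.ofNat_ne_one, _root_.not_false_eq_true, _root_.pow_right_inj₀, _root_.Nat.left_eq_add, _root_.List.not_mem_nil, _root_.or_self, _root_.or_false, _root_.true_or, _root_.or_true])))) (Submodule.smul_mem _ _ (hm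 _ (by simp only [_root_.List.mem_cons, _root_.Nat.add_eq_zero_iff, _root_.Nat.pow_eq_zero, _root_.OfNat.ofNat_ne_zero, _root_.ne_eq, _root_.false_and, _root_.and_self, _root_.Nat.add_eq_left, _root_.Nat.add_eq_right, _root_.Nat.add_left_cancel_iff, _root_.Order.lt_two_iff, _root_.zero_le, _root_.OfNat.ofNat_ne_one, _root_.not_false_eq_true, _root_.pow_right_inj₀, _root_.Nat.add_right_cancel_iff, _root_.Nat.left_eq_add, _root_.List.not_mem_nil, _root_.or_self, _root_.or_false, _root_.true_or, _root_.or_true]))))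
    (Submodule.smul_mem _ _ (hm _ (by simp only [_root_.List.mem_cons, _root_.Nat.pow_eq_zero, _root_.OfNat.ofNat_ne_zero, _root_.ne_eq, _root_.false_and, _root_.Order.lt_two_iff, _root_.zero_le, _root_.OfNat.ofNat_ne_one, _root_.not_false_eq_true, _root_.pow_right_inj₀, _root_.Nat.left_eq_add, _root_.List.not_mem_nil, _root_.or_false, _root_.false_or, _root_.true_or, _root_.or_true])))) (Submodule.smul_mem _ _ (hm _ (by simp only [_root_.List.mem_cons, _root_.Nat.add_eq_zero_iff, _root_.Nat.pow_eq_zero, _root_.OfNat.ofNat_ne_zero, _root_.ne_eq, _root_.false_and, _root_.and_self, _root_.Nat.add_eq_left, _root_.Nat.add_eq_right, _root_.Nat.add_right_cancel_iff, _root_.Order.lt_two_iff, _root_.zero_le, _root_.OfNat.ofNat_ne_one, _root_.not_false_eq_true, _root_.pow_right_inj₀, _root_.Nat.add_left_cancel_iff, _root_.Nat.right_eq_add, _root_.List.not_mem_nil, _root_.or_self, _root_.or_false, _root_.or_true]))))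
    (Submodule.smul_mem _ _ (hm _ (by simp only [_root_.List.mem_cons, _root_.Nat.pow_eq_zero, _root_.OfNat.ofNat_ne_zero, _root_.ne_eq, _root_.false_and, _root_.Order.lt_two_iff, _root_.zero_le, _root_.OfNat.ofNat_ne_one, _root_.not_false_eq_true, _root_.pow_right_inj₀, _root_.Nat.right_eq_add, _root_.Nat.left_eq_add, _root_.List.not_mem_nil, _root_.or_false, _root_.false_or, _root_.true_or, _root_.or_true])))) (Submodule.smul_mem _ _ (hm _ (by simp))))
    (Submodule.smul_mem _ _ (hm _ (by simp)))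

end Fun

section Main

universe v

variable {k : Type*} [Field k] [CharP k 2] [IsAlgClosed k] {F : Type*} [Field F] [Fintype F] [DecidableEq F] {ι : F →+* k}
  {P : _root_.Matrix.SpecialLinearGroup (Fin 2) F →* Matrix (Fin 2) (Fin 2) k} {y t0 : _root_.Matrix.SpecialLinearGroup (Fin 2) F} {ζ : k}

theorem exists_ne_zero {A B : Matrix (Fin 2) (Fin 2) k} (hAB : A * B = 1) : ∃ a, A 0 a ≠ 0 := by
  by_contra hcon
  push Not at hcon
  have h1 := congrFun (congrFun hAB 0) 0
  rw [Matrix.mul_apply, Fin.sum_univ_two, hcon, hcon, zero_mul, zero_mul, add_zero, Matrix.one_apply_eq] at h1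
  exact zero_ne_one h1

theorem lam_ne {A : Matrix (Fin 2) (Fin 2) k} {a : Fin 2} (ha : A 0 a ≠ 0) : lam ι A a (1, 0) ≠ 0 := by
  unfold lam
  rw [map_one, map_zero, mul_one, mul_zero, add_zero]
  exact ha

/-- the conclusion -/
def HasFam {V : Type*} [AddCommGroup V] [Module k V] (P : _root_.Matrix.SpecialLinearGroup (Fin 2) F →* Matrix (Fin 2) (Fin 2) k)
    (ρ : Representation k (_root_.Matrix.SpecialLinearGroup (Fin 2) F) V) (L : Submodule k V) : Prop :=
  (∃ i < 4, ∃ w, Fam1 P ρ i w ∧ w ≠ 0 ∧ ∀ a, w a ∈ L) ∨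
  (∃ i j, i < j ∧ j < 4 ∧ ∃ w, Fam2 P ρ i j w ∧ w ≠ 0 ∧ ∀ a c, w a c ∈ L) ∨
  (∃ i j l, i < j ∧ j < l ∧ l < 4 ∧ ∃ w, Fam3 P ρ i j l w ∧ w ≠ 0 ∧ ∀ a c e, w a c e ∈ L)

variable {V : Type*} [AddCommGroup V] [Module k V] (ρ : Representation k (_root_.Matrix.SpecialLinearGroup (Fin 2) F) V)

section Fams

variable [CharP F 2] (D : PDat ι P y t0 ζ) (hs1 : (-1 : k) ^ (Fintype.card F - 1) = 1)

include D in
theorem fam1 {i : ℕ} (hb : 2 ^ i ≤ Fintype.card F - 1)
    (φ : Vb ι (2 ^ i) →ₗ[k] V) (hφ : Function.Injective φ)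
    (hρ : ∀ g x, φ (Cfsg.Agent.H179.SLC.rb ι 2 hs1 hb g x) = ρ g (φ x)) (hm : ∀ m ∈ [0, 2 ^ i], m ∈ Bb k (2 ^ i)) :
    ∃ w, Fam1 P ρ i w ∧ w ≠ 0 ∧ ∀ a, w a ∈ LinearMap.range φ := by
  classical
  obtain ⟨A, B, hAB, hBA, hP⟩ := D.conj
  let x : Fin 2 → Vb ι (2 ^ i) := fun a => ⟨_, mem1 (A := A) hs1 hb hm a⟩
  refine ⟨fun a => φ (x a), fun s a => ?_, fun h0 => ?_, fun a => ⟨_, rfl⟩⟩
  · rw [← hρ]
    simp only [← map_smul]
    rw [← map_sum]
    congr 1
    apply Subtype.ext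
    rw [Submodule.coe_sum]
    funext z
    rw [Finset.sum_apply, Fin.sum_univ_two]
    exact lam_act_pow hAB hP i s a z
  · obtain ⟨a, ha⟩ := exists_ne_zero hAB
    have h1 : x a = 0 := hφ (by rw [map_zero]; exact congrFun h0 a)
    have h2 := congrFun (congrArg Subtype.val h1) (1, 0)
    exact pow_ne_zero _ (lam_ne ha) h2

include D in
theorem fam2 {i j : ℕ} (hb : 2 ^ i + 2 ^ j ≤ Fintype.card F - 1)
    (φ : Vb ι (2 ^ i + 2 ^ j) →ₗ[k] V) (hφ : Function.Injective φ)
    (hρ : ∀ g x, φ (Cfsg.Agent.H179.SLC.rb ι 2 hs1 hb g x) = ρ g (φ x))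
    (hm : ∀ m ∈ [0, 2 ^ i, 2 ^ j, 2 ^ i + 2 ^ j], m ∈ Bb k (2 ^ i + 2 ^ j)) :
    ∃ w, Fam2 P ρ i j w ∧ w ≠ 0 ∧ ∀ a c, w a c ∈ LinearMap.range φ := by
  classical
  obtain ⟨A, B, hAB, hBA, hP⟩ := D.conj
  let x : Fin 2 → Fin 2 → Vb ι (2 ^ i + 2 ^ j) := fun a c => ⟨_, mem2 (A := A) hs1 hb hm a c⟩
  refine ⟨fun a c => φ (x a c), fun s a c => ?_, fun h0 => ?_, fun a c => ⟨_, rfl⟩⟩
  · rw [← hρ]
    simp only [← map_smul]
    simp only [← map_sum]
    congr 1
    apply Subtype.ext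
    funext z
    have e1 := lam_act_pow hAB hP i s a z
    have e2 := lam_act_pow hAB hP j s c z
    show (lam ι A a (z.1 * s.1 0 0 + z.2 * s.1 1 0, z.1 * s.1 0 1 + z.2 * s.1 1 1)) ^ 2 ^ i *
      (lam ι A c (z.1 * s.1 0 0 + z.2 * s.1 1 0, z.1 * s.1 0 1 + z.2 * s.1 1 1)) ^ 2 ^ j = _
    rw [e1, e2]
    simp only [Submodule.coe_smul, Pi.smul_apply, smul_eq_mul, Fin.sum_univ_two,
      Submodule.coe_add, Pi.add_apply, x]
    ring
  · obtain ⟨a, ha⟩ := exists_ne_zero hAB
    have h1 : x a a = 0 := hφ (by rw [map_zero]; exact congrFun (congrFun h0 a) a)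
    have h2 := congrFun (congrArg Subtype.val h1) (1, 0)
    exact mul_ne_zero (pow_ne_zero _ (lam_ne ha)) (pow_ne_zero _ (lam_ne ha)) h2

include D in
theorem fam3 {i j l : ℕ} (hb : 2 ^ i + 2 ^ j + 2 ^ l ≤ Fintype.card F - 1)
    (φ : Vb ι (2 ^ i + 2 ^ j + 2 ^ l) →ₗ[k] V) (hφ : Function.Injective φ)
    (hρ : ∀ g x, φ (Cfsg.Agent.H179.SLC.rb ι 2 hs1 hb g x) = ρ g (φ x))
    (hm : ∀ m ∈ [0, 2 ^ i, 2 ^ j, 2 ^ l, 2 ^ i + 2 ^ j, 2 ^ i + 2 ^ l, 2 ^ j + 2 ^ l, 2 ^ i + 2 ^ j + 2 ^ l],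
      m ∈ Bb k (2 ^ i + 2 ^ j + 2 ^ l)) :
    ∃ w, Fam3 P ρ i j l w ∧ w ≠ 0 ∧ ∀ a c e, w a c e ∈ LinearMap.range φ := by
  classical
  obtain ⟨A, B, hAB, hBA, hP⟩ := D.conj
  let x : Fin 2 → Fin 2 → Fin 2 → Vb ι (2 ^ i + 2 ^ j + 2 ^ l) := fun a c e => ⟨_, mem3 (A := A) hs1 hb hm a c e⟩
  refine ⟨fun a c e => φ (x a c e), fun s a c e => ?_, fun h0 => ?_, fun a c e => ⟨_, rfl⟩⟩
  · rw [← hρ]
    simp only [← map_smul]
    simp only [← map_sum]
    congr 1
    apply Subtype.ext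
    funext z
    have e1 := lam_act_pow hAB hP i s a z
    have e2 := lam_act_pow hAB hP j s c z
    have e3 := lam_act_pow hAB hP l s e z
    show (lam ι A a (z.1 * s.1 0 0 + z.2 * s.1 1 0, z.1 * s.1 0 1 + z.2 * s.1 1 1)) ^ 2 ^ i *
      (lam ι A c (z.1 * s.1 0 0 + z.2 * s.1 1 0, z.1 * s.1 0 1 + z.2 * s.1 1 1)) ^ 2 ^ j *
      (lam ι A e (z.1 * s.1 0 0 + z.2 * s.1 1 0, z.1 * s.1 0 1 + z.2 * s.1 1 1)) ^ 2 ^ l = _
    rw [e1, e2, e3]
    simp only [Submodule.coe_smul, Pi.smul_apply, smul_eq_mul, Fin.sum_univ_two,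
      Submodule.coe_add, Pi.add_apply, x]
    ring
  · obtain ⟨a, ha⟩ := exists_ne_zero hAB
    have h1 : x a a a = 0 := hφ (by rw [map_zero]; exact congrFun (congrFun (congrFun h0 a) a) a)
    have h2 := congrFun (congrArg Subtype.val h1) (1, 0)
    exact mul_ne_zero (mul_ne_zero (pow_ne_zero _ (lam_ne ha)) (pow_ne_zero _ (lam_ne ha))) (pow_ne_zero _ (lam_ne ha)) h2

end Fams

end Main

end Cfsg.Agent.H280.L16
end

private theorem dce_2a196e5cb74a : _root_.True := by
  try have : _root_.True := by simp only [_root_.Cfsg.Agent.H179.SLC.rb.congr_simp]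
  try have : _root_.True := by simp only [_root_.Cfsg.Agent.H943.SL2Mod.mon.eq_1]
  exact _root_.True.intro
end

-- part: H939/L16/Def2
section
prune_inst 0x242064447022020000000510120020040800040200030000ebe00f060b49c00289400e002a10071208a0808068090048111000304220000000008400400200000cc352063200a000440088000080000000000000020000000000000000000000000000000
set_option linter.all false
open scoped Cfsg.Agent.FastGrp

-- part: H280/L16/Exi
section
/-!
# S5916: existence of a non-zero family (helper280)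
-/

set_option autoImplicit false
set_option linter.unusedSectionVars false

namespace Cfsg.Agent.H280.L16

open Matrix Cfsg.Agent.H943.SL2Rel Cfsg.Agent.H943.SL2Mod Cfsg.Agent.H943.RepAdd

section Main

variable {k : Type*} [Field k] [CharP k 2] [IsAlgClosed k] {F : Type*} [Field F] [Fintype F] [DecidableEq F] {ι : F →+* k}
  {P : _root_.Matrix.SpecialLinearGroup (Fin 2) F →* Matrix (Fin 2) (Fin 2) k} {y t0 : _root_.Matrix.SpecialLinearGroup (Fin 2) F} {ζ : k}
  {V : Type*} [AddCommGroup V] [Module k V] (ρ : Representation k (_root_.Matrix.SpecialLinearGroup (Fin 2) F) V)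

theorem EE_intertwine {W : Type*} [AddCommGroup W] [Module k W] (r : Representation k (_root_.Matrix.SpecialLinearGroup (Fin 2) F) W)
    (Φ : W →ₗ[k] V) (h : ∀ g x, Φ (r g x) = ρ g (Φ x)) (x : W) : EE ρ (Φ x) = Φ (EE r x) := by
  rw [EE_apply, EE_apply, map_sum]
  exact Finset.sum_congr rfl fun g _ => by rw [map_smul, h]

include ι in
theorem exists_emb [FiniteDimensional k V] [CharP F 2] (hs1 : (-1 : k) ^ (Fintype.card F - 1) = 1) (K : Submodule k V) (hK : _root_.Cfsg.Agent.H943.SL2Mod.Inv ρ K) (h0 : K ≠ ⊥) :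
    ∃ (b : ℕ) (hb : b ≤ Fintype.card F - 1) (Φ : Vb ι b →ₗ[k] V), Function.Injective Φ ∧ (∀ x, Φ x ∈ K) ∧
      ∀ g x, Φ (Cfsg.Agent.H179.SLC.rb ι 2 hs1 hb g x) = ρ g (Φ x) := by
  classical
  have : Nontrivial K := Submodule.nontrivial_iff_ne_bot.2 h0
  obtain ⟨W, hW, hW0, hmin⟩ := exists_irr_sub (subRep ρ K hK)
  have hIW : Irr (subRep (subRep ρ K hK) W hW) := by
    refine ⟨Submodule.nontrivial_iff_ne_bot.2 hW0, fun W' hW' => ?_⟩
    rcases hmin (W'.map W.subtype) (Submodule.map_subtype_le _ _) (by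
      rintro g _ ⟨x, hx, rfl⟩
      exact ⟨_, hW' g x hx, rfl⟩) with h1 | h1
    · left
      rw [eq_bot_iff]
      intro x hx
      have h2 : (x : K) ∈ W'.map W.subtype := ⟨x, hx, rfl⟩
      rw [h1] at h2
      exact (Submodule.mem_bot k).2 (Subtype.ext ((Submodule.mem_bot k).1 h2))
    · right
      rw [eq_top_iff]
      intro x _
      have h2 : (x : K) ∈ W'.map W.subtype := by rw [h1]; exact x.2
      obtain ⟨y, hy, e⟩ := h2
      rwa [← Subtype.ext (p := fun z => z ∈ W) e]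
  obtain ⟨b, hb, φ, hφ⟩ := Cfsg.Agent.H179.SLC.irr_iso ι 2 (subRep (subRep ρ K hK) W hW) ι.injective hs1 hIW
  refine ⟨b, hb, K.subtype ∘ₗ W.subtype ∘ₗ φ.toLinearMap,
    (Subtype.val_injective.comp Subtype.val_injective).comp φ.injective, fun x => ((φ x : W) : K).2, fun g x => ?_⟩
  show (((φ (Cfsg.Agent.H179.SLC.rb ι 2 hs1 hb g x) : W) : K) : V) = ρ g (((φ x : W) : K) : V)
  rw [hφ]
  rfl

/-- **existence of a non-zero family** -/
theorem exists_fam [FiniteDimensional k V] (D : PDat ι P y t0 ζ) (L : Submodule k V) (hL : _root_.Cfsg.Agent.H943.SL2Mod.Inv ρ L)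
    (hX : ∀ v ∈ L, (∀ g, ρ g v = v) → v = 0) {v : V} (hvL : v ∈ L) (hv : ρ y v = v) (hv0 : v ≠ 0) : HasFam P ρ L := by
  classical
  have hF := D.card
  have hc2 : CharP F 2 := F_char hF
  have h2 : (2 : k) = 0 := k_two hF
  have hneg : (-1 : k) = 1 := by
    have : (1 : k) + 1 = 0 := by rw [one_add_one_eq_two, h2]
    exact neg_eq_of_add_eq_zero_left this
  have hs1 : (-1 : k) ^ (Fintype.card F - 1) = 1 := by rw [hneg, one_pow]
  have hKL : _root_.Cfsg.Agent.H943.SL2Mod.Inv ρ (L ⊓ LinearMap.ker (EE ρ)) := fun g x hx => ⟨hL g x hx.1, inv_ker ρ g x hx.2⟩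
  have hK0 : L ⊓ LinearMap.ker (EE ρ) ≠ ⊥ := by
    intro h
    have h1 : v ∈ L ⊓ LinearMap.ker (EE ρ) := ⟨hvL, LinearMap.mem_ker.2 (EE_fix ρ D hv)⟩
    rw [h] at h1
    exact hv0 ((Submodule.mem_bot k).1 h1)
  obtain ⟨b, hb, Φ, hinj, hmem, hΦ⟩ := exists_emb (ι := ι) ρ hs1 _ hKL hK0
  have hmb : mon ι b b ∈ Vb ι b := Cfsg.Agent.H179.SLC.Db_le ι 2 hs1 hb (mon_mem_Db ι b)
  have hmb0 : (⟨_, hmb⟩ : Vb ι b) ≠ 0 := fun h => mon_ne_zero ι b (congrArg Subtype.val h)
  -- not trivial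
  have hb0 : b ≠ 0 := by
    rintro rfl
    apply hmb0
    apply hinj
    rw [map_zero]
    refine hX _ (hmem _).1 fun g => ?_
    rw [← hΦ]
    congr 1
    apply Subtype.ext
    funext z
    show ι _ ^ 0 * ι _ ^ (0 - 0) = ι _ ^ 0 * ι _ ^ (0 - 0)
    rw [Nat.sub_zero, pow_zero, pow_zero, pow_zero, pow_zero]
  -- not the Steinberg module
  have hb15 : b ≠ 15 := by
    rintro rfl
    have h1 : EE ρ (Φ ⟨_, hmb⟩) = 0 := (hmem _).2
    rw [EE_intertwine ρ _ Φ hΦ, EE_borel _ hF] at h1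
    · have h2' : SS (Cfsg.Agent.H179.SLC.rb ι 2 hs1 hb) ⟨_, hmb⟩ = 0 := hinj (by rw [h1, map_zero])
      have h3 : SS (fRep k F) (mon ι 15 15) = 0 := by
        have h4 := congrArg Subtype.val h2'
        rw [SS_apply, Submodule.coe_sum] at h4
        rw [SS_apply]
        exact h4
      have h5 := Cfsg.Agent.H179.SLC.SS_mon_eq ι 2 hs1
      rw [hF] at h5
      rw [h5] at h3
      rcases smul_eq_zero.1 h3 with h6 | h6
      · rw [hneg] at h6
        exact one_ne_zero h6
      · exact mon_ne_zero ι 15 h6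
    · intro t
      apply Subtype.ext
      exact (Cfsg.Agent.H179.SLC.good_Db ι 2 hs1 hb).ufix t _ (mon_mem_Db ι _)
    · intro a
      apply Subtype.ext
      show fRep k F (h a) (mon ι 15 15) = mon ι 15 15
      rw [h_mon, Nat.sub_self, pow_zero, mul_one, ← map_pow]
      have : (a : F) ^ 15 = 1 := by
        have h1 := FiniteField.pow_card_sub_one_eq_one (a : F) a.ne_zero
        rwa [hF] at h1
      rw [this, map_one, one_smul]
  have hle : b ≤ 15 := by
    have := hb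
    rw [hF] at this
    exact this
  have hrg : ∀ x ∈ LinearMap.range Φ, x ∈ L := by
    rintro _ ⟨x, rfl⟩
    exact (hmem x).1
  have key1 : ∀ i < 4, b = 2 ^ i → HasFam P ρ L := by
    rintro i hi rfl
    obtain ⟨w, hw, hw0, hwL⟩ := fam1 ρ D hs1 hb Φ hinj hΦ (by
      interval_cases i <;> intro m hm <;> fin_cases hm <;> exact mem_Bb_of (by norm_num) (by decide))
    exact Or.inl ⟨i, hi, w, hw, hw0, fun a => hrg _ (hwL a)⟩
  have key2 : ∀ i j, i < j → j < 4 → b = 2 ^ i + 2 ^ j → HasFam P ρ L := by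
    rintro i j hij hj rfl
    obtain ⟨w, hw, hw0, hwL⟩ := fam2 ρ D hs1 hb Φ hinj hΦ (by
      interval_cases j <;> interval_cases i <;> intro m hm <;> fin_cases hm <;>
        exact mem_Bb_of (by norm_num) (by decide))
    exact Or.inr (Or.inl ⟨i, j, hij, hj, w, hw, hw0, fun a c => hrg _ (hwL a c)⟩)
  have key3 : ∀ i j l, i < j → j < l → l < 4 → b = 2 ^ i + 2 ^ j + 2 ^ l → HasFam P ρ L := by
    rintro i j l hij hjl hl rfl
    obtain ⟨w, hw, hw0, hwL⟩ := fam3 ρ D hs1 hb Φ hinj hΦ (by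
      interval_cases l <;> interval_cases j <;> interval_cases i <;> intro m hm <;> fin_cases hm <;>
        exact mem_Bb_of (by norm_num only []) (by decide))
    exact Or.inr (Or.inr ⟨i, j, l, hij, hjl, hl, w, hw, hw0, fun a c e => hrg _ (hwL a c e)⟩)
  have hcase : b = 1 ∨ b = 2 ∨ b = 3 ∨ b = 4 ∨ b = 5 ∨ b = 6 ∨ b = 7 ∨ b = 8 ∨ b = 9 ∨ b = 10 ∨ b = 11 ∨ b = 12 ∨
      b = 13 ∨ b = 14 := by omega
  rcases hcase with h | h | h | h | h | h | h | h | h | h | h | h | h | h
  · exact key1 0 (by norm_num) h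
  · exact key1 1 (by norm_num) h
  · exact key2 0 1 (by norm_num) (by norm_num) h
  · exact key1 2 (by norm_num) h
  · exact key2 0 2 (by norm_num) (by norm_num) h
  · exact key2 1 2 (by norm_num) (by norm_num) h
  · exact key3 0 1 2 (by norm_num) (by norm_num) (by norm_num) h
  · exact key1 3 (by norm_num) h
  · exact key2 0 3 (by norm_num) (by norm_num) h
  · exact key2 1 3 (by norm_num) (by norm_num) h
  · exact key3 0 1 3 (by norm_num) (by norm_num) (by norm_num) h
  · exact key2 2 3 (by norm_num) (by norm_num) h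
  · exact key3 0 2 3 (by norm_num) (by norm_num) (by norm_num) h
  · exact key3 1 2 3 (by norm_num) (by norm_num) (by norm_num) h

end Main

end Cfsg.Agent.H280.L16
end

-- part: H939/L16/Def2
section
/-!
# S5916: interface of the case `i ≠ 1`, `L^S = 0` (PLAN of helper955)
-/

set_option autoImplicit false
set_option maxRecDepth 100000

namespace Cfsg.Agent.H939.L16

open Matrix Cfsg Cfsg.Lie
open Cfsg.Agent.H939.L64 (KK E2 LK em aK rE fr brK)
open Cfsg.Agent.H413.L16 (er hv hr tg)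
open Cfsg.Agent.H943.SL2Mod Cfsg.Agent.H943.RepAdd
open Cfsg.Agent.H280.L16 (PDat Fam1 Fam2 Fam3)
open Cfsg.Agent.H955.L16 (vR vN T)

/-! ### classes of vectors (names of helper955) -/

/-- the vectors allowed in the simple submodules (after the eliminations) -/
def Good (Fp : LK → LK) (ta : LK →ₗ[KK] LK) (v : LK) : Prop :=
  ∃ (j : ℕ) (u : LK), ((∃ k r1 r2 r3 r0, u = vR k 0 0 r1 r2 r3 r0) ∨ ∃ K1 K2 A A2 B, A * A2 = 0 ∧ u = vN K1 K2 A A2 B) ∧
    (v = Fp^[j] u ∨ v = T ta (Fp^[j] u))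

/-- `f` of a root : the sum of the `⟨r, p_j⟩` -/
def fv (s : ℕ) : ℤ :=
  Cfsg.Agent.ChevalleyStructure.Columns.car chevE8 6 s + Cfsg.Agent.ChevalleyStructure.Columns.car chevE8 4 s +
  Cfsg.Agent.ChevalleyStructure.Columns.car chevE8 1 s + Cfsg.Agent.ChevalleyStructure.Columns.car chevE8 2 s

/-- the parabolic subalgebra `f ≥ 0` -/
noncomputable def Pf : Submodule KK LK where
  carrier := {v | ∀ s : Fin chevE8.nroots, fv s < 0 → v (Sum.inr s) = 0}
  add_mem' := fun ha hb s hs => by rw [Pi.add_apply, ha s hs, hb s hs, add_zero]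
  zero_mem' := fun _ _ => rfl
  smul_mem' := fun c v hv s hs => by rw [Pi.smul_apply, hv s hs, smul_zero]

/-- the Lie algebra generated by a subspace -/
noncomputable def lieS (N : Submodule KK LK) : Submodule KK LK :=
  sInf {A | N ≤ A ∧ ∀ u ∈ A, ∀ v ∈ A, brK u v ∈ A}

/-! ### the canonical submodules -/

section

variable {F : Type} [Field F] [Fintype F]

/-- simple submodules -/
def Simp (ρ : Representation KK (_root_.Matrix.SpecialLinearGroup (Fin 2) F) LK) (X : Submodule KK LK) : Prop :=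
  _root_.Cfsg.Agent.H943.SL2Mod.Inv ρ X ∧ X ≠ ⊥ ∧ ∀ Y ≤ X, _root_.Cfsg.Agent.H943.SL2Mod.Inv ρ Y → Y = ⊥ ∨ Y = X

/-- the sum of the simple submodules of dimension `2 ^ n` -/
noncomputable def NN (ρ : Representation KK (_root_.Matrix.SpecialLinearGroup (Fin 2) F) LK) (n : ℕ) : Submodule KK LK :=
  sSup {X | Simp ρ X ∧ Module.finrank KK X = 2 ^ n}

/-- no family with fewer than `n` distinct exponents -/
def MinF (P : _root_.Matrix.SpecialLinearGroup (Fin 2) F →* Matrix (Fin 2) (Fin 2) KK)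
    (ρ : Representation KK (_root_.Matrix.SpecialLinearGroup (Fin 2) F) LK) (n : ℕ) : Prop :=
  (∀ v, (∀ s, ρ s v = v) → v = 0) ∧ (1 < n → ∀ i < 4, ∀ w, Fam1 P ρ i w → w = 0) ∧
    (2 < n → ∀ i < 4, ∀ j < 4, i ≠ j → ∀ w, Fam2 P ρ i j w → w = 0)

/-- all vectors of the families with `n` exponents, `n = 1, 2, 3` -/
def FamV (P : _root_.Matrix.SpecialLinearGroup (Fin 2) F →* Matrix (Fin 2) (Fin 2) KK)
    (ρ : Representation KK (_root_.Matrix.SpecialLinearGroup (Fin 2) F) LK) (n : ℕ) : Set LK :=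
  {v | (n = 1 ∧ ∃ i < 4, ∃ w, Fam1 P ρ i w ∧ ∃ a, v = w a) ∨
    (n = 2 ∧ ∃ i j, i < j ∧ j < 4 ∧ ∃ w, Fam2 P ρ i j w ∧ ∃ a b, v = w a b) ∨
    (n = 3 ∧ ∃ i j l, i < j ∧ j < l ∧ l < 4 ∧ ∃ w, Fam3 P ρ i j l w ∧ ∃ a b c, v = w a b c)}

end

end Cfsg.Agent.H939.L16
end
end
end
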